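import Mathlib

/-!
# Socle transfer along local formally unramified flat algebras

If `C` is a flat, essentially of finite type, formally unramified local algebra over a local ring `A`
and `C` has a non-zero element killed by the maximal ideal of `A`, then so has `A`.
-/

set_option autoImplicit false
set_option linter.style.haveILetI false
set_option backward.isDefEq.respectTransparency false

universe u

open TensorProduct IsLocalRing

namespace Groth.Agent.CAlgH.InjModA

/-- With trivial residue extension the elements killed by the maximal ideal come from the base. -/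
theorem socle_trivial {A C : Type u} [CommRing A] [IsLocalRing A] [CommRing C] [IsLocalRing C]
    [Algebra A C] [IsLocalHom (algebraMap A C)] [Module.Flat A C] [Algebra.EssFiniteType A C]
    [Algebra.FormallyUnramified A C]
    (hres : ∀ c : C, ∃ a : A, c - algebraMap A C a ∈ (maximalIdeal A).map (algebraMap A C))
    (ι : C) (hι : ∀ z ∈ maximalIdeal A, z • ι = 0) : ι ∈ (algebraMap A C).range := by
  obtain ⟨t, ht, ht1⟩ := (Algebra.FormallyUnramified.iff_exists_tensorProduct (R := A) (S := C)).1 ‹_›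
  let I : Ideal (C ⊗[A] C) := (maximalIdeal A).map (algebraMap A (C ⊗[A] C))
  have hmI : ∀ a ∈ maximalIdeal A, algebraMap A (C ⊗[A] C) a ∈ I := fun a ha => Ideal.mem_map_of_mem _ ha
  have hleft : ∀ x ∈ (maximalIdeal A).map (algebraMap A C), x ⊗ₜ[A] (1 : C) ∈ I := fun x hx => by
    have := Ideal.mem_map_of_mem (Algebra.TensorProduct.includeLeft (R := A) (S := A) (B := C)).toRingHom hx
    rw [Ideal.map_map, AlgHom.toRingHom_eq_coe, AlgHom.comp_algebraMap] at this
    exact this
  have hright : ∀ x ∈ (maximalIdeal A).map (algebraMap A C), (1 : C) ⊗ₜ[A] x ∈ I := fun x hx => by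
    have := Ideal.mem_map_of_mem (Algebra.TensorProduct.includeRight (R := A) (A := C) (B := C)).toRingHom hx
    rw [Ideal.map_map, AlgHom.toRingHom_eq_coe, AlgHom.comp_algebraMap] at this
    exact this
  have hmod : ∀ w : C ⊗[A] C, ∃ a : A, w - algebraMap A _ a ∈ I := by
    intro w
    induction w using TensorProduct.induction_on with
    | zero => exact ⟨0, by simp⟩
    | tmul c d =>
      obtain ⟨a, ha⟩ := hres c
      obtain ⟨b, hb⟩ := hres d
      refine ⟨a * b, ?_⟩
      have : c ⊗ₜ[A] d - algebraMap A _ (a * b) =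
          (c - algebraMap A C a) ⊗ₜ[A] (1 : C) * ((1 : C) ⊗ₜ[A] d) +
            algebraMap A (C ⊗[A] C) a * ((1 : C) ⊗ₜ[A] (d - algebraMap A C b)) := by
        rw [map_mul, Algebra.TensorProduct.algebraMap_apply a, Algebra.TensorProduct.algebraMap_apply' b]
        simp only [tmul_sub, sub_tmul, mul_sub, sub_mul, Algebra.TensorProduct.tmul_mul_tmul, one_mul, mul_one]
        abel
      rw [this]
      exact I.add_mem (I.mul_mem_right _ (hleft _ ha)) (I.mul_mem_left _ (hright _ hb))
    | add x y hx hy =>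
      obtain ⟨a, ha⟩ := hx
      obtain ⟨b, hb⟩ := hy
      exact ⟨a + b, by rw [map_add, add_sub_add_comm]; exact I.add_mem ha hb⟩
  let μ := Algebra.TensorProduct.lmul' A (S := C)
  have ht' : 1 - t ∈ I := by
    obtain ⟨a, ha⟩ := hmod (1 - t)
    have h1 : μ (1 - t - algebraMap A _ a) ∈ (maximalIdeal A).map (algebraMap A C) := by
      have := Ideal.mem_map_of_mem μ.toRingHom ha
      rwa [Ideal.map_map, AlgHom.toRingHom_eq_coe, AlgHom.comp_algebraMap] at this
    rw [map_sub, map_sub, map_one, ht1, sub_self, zero_sub, μ.commutes, neg_mem_iff] at h1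
    have hle : (maximalIdeal A).map (algebraMap A C) ≤ maximalIdeal C :=
      ((local_hom_TFAE (algebraMap A C)).out 0 2).1 ‹IsLocalHom (algebraMap A C)›
    have h2 : a ∈ maximalIdeal A := fun hu =>
      (maximalIdeal.isMaximal C).ne_top (Ideal.eq_top_of_isUnit_mem _ (hle h1) (hu.map _))
    simpa using I.add_mem ha (hmI a h2)
  let y : C ⊗[A] C := (1 : C) ⊗ₜ[A] ι - ι ⊗ₜ[A] (1 : C)
  have hy0 : ∀ w ∈ I, y * w = 0 := fun w hw => by
    refine Submodule.span_induction (p := fun w _ => y * w = 0) ?_ (mul_zero _)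
      (fun a b _ _ ha hb => by rw [mul_add, ha, hb, add_zero])
      (fun a b _ hb => by rw [smul_eq_mul, mul_left_comm, hb, mul_zero]) hw
    rintro _ ⟨z, hz, rfl⟩
    rw [mul_comm, ← Algebra.smul_def, smul_sub, ← tmul_smul, hι z hz, tmul_zero, smul_tmul', hι z hz,
      zero_tmul, sub_zero]
  have hy : y = 0 := by
    calc y = y * t + y * (1 - t) := by rw [← mul_add, add_sub_cancel, mul_one]
      _ = 0 := by rw [ht ι, hy0 _ ht', add_zero]
  have : Module.FaithfullyFlat A C := Module.FaithfullyFlat.of_flat_of_isLocalHom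
  let R₁ : Submodule A C := LinearMap.range (Algebra.linearMap A C)
  have h0 : R₁.mkQ ι = 0 := by
    apply Module.FaithfullyFlat.tensorProduct_mk_injective (A := A) (B := C) (C ⧸ R₁)
    show (1 : C) ⊗ₜ[A] R₁.mkQ ι = (1 : C) ⊗ₜ[A] (0 : C ⧸ R₁)
    rw [tmul_zero, ← LinearMap.lTensor_tmul, sub_eq_zero.1 hy, LinearMap.lTensor_tmul,
      show R₁.mkQ (1 : C) = 0 from (Submodule.Quotient.mk_eq_zero R₁).2 ⟨1, (algebraMap A C).map_one⟩, tmul_zero]
  obtain ⟨a, ha⟩ := (Submodule.Quotient.mk_eq_zero R₁).1 h0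
  exact ⟨a, ha⟩

set_option maxHeartbeats 800000 in
/-- An element killed by the maximal ideal forces one in the base. -/
theorem socle_transfer {A C : Type u} [CommRing A] [IsLocalRing A] [CommRing C] [IsLocalRing C]
    [Algebra A C] [IsLocalHom (algebraMap A C)] [Module.Flat A C] [Algebra.EssFiniteType A C]
    [Algebra.FormallyUnramified A C] (ι : C) (hι0 : ι ≠ 0) (hι : ∀ z ∈ maximalIdeal A, z • ι = 0) :
    ∃ w : A, w ≠ 0 ∧ ∀ z ∈ maximalIdeal A, z * w = 0 := by
  classical
  let κ := ResidueField A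
  let L := ResidueField C
  haveI : Module.Finite κ L := inferInstance
  haveI : Algebra.IsSeparable κ L := inferInstance
  obtain ⟨θ, hθ⟩ := Field.exists_primitive_element κ L
  have hint : IsIntegral κ θ := Algebra.IsIntegral.isIntegral θ
  obtain ⟨F, hFmap, -, hFm⟩ := Polynomial.lifts_and_natDegree_eq_and_monic
    (f := residue A) (p := minpoly κ θ)
    ((Polynomial.lifts_iff_coeff_lifts _).2 fun n => residue_surjective _) (minpoly.monic hint)
  have hFθ : Polynomial.aeval θ F = 0 := by
    have := minpoly.aeval κ θ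
    rw [← hFmap] at this
    change Polynomial.aeval θ (F.map (algebraMap A κ)) = 0 at this
    rwa [Polynomial.aeval_map_algebraMap] at this
  let A₂ := AdjoinRoot F
  haveI : Module.Finite A A₂ := hFm.finite_adjoinRoot
  haveI : Module.Free A A₂ := hFm.free_adjoinRoot
  let φ : A₂ →ₐ[A] L := AdjoinRoot.liftAlgHom F (Algebra.ofId A L) θ hFθ
  have hφmk : ∀ P, φ (AdjoinRoot.mk F P) = Polynomial.aeval θ P := fun P => by
    exact AdjoinRoot.lift_mk hFθ P
  have hφsurj : Function.Surjective φ := fun x => by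
    have : x ∈ Algebra.adjoin κ {θ} := by
      rw [← IntermediateField.adjoin_simple_toSubalgebra_of_isAlgebraic hint.isAlgebraic, hθ]; trivial
    obtain ⟨P, rfl⟩ := Algebra.adjoin_singleton_eq_range_aeval κ θ ▸ this
    obtain ⟨Q, rfl⟩ := Polynomial.map_surjective (algebraMap A κ) residue_surjective P
    exact ⟨AdjoinRoot.mk F Q, (hφmk Q).trans (Polynomial.aeval_map_algebraMap _ _ _).symm⟩
  have hker : RingHom.ker φ = (maximalIdeal A).map (algebraMap A A₂) := by
    refine le_antisymm (fun x hx => ?_) (Ideal.map_le_iff_le_comap.2 fun a ha => ?_)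
    · obtain ⟨P, rfl⟩ := AdjoinRoot.mk_surjective x
      rw [RingHom.mem_ker, hφmk, ← Polynomial.aeval_map_algebraMap κ] at hx
      obtain ⟨Q, hQ⟩ := minpoly.dvd κ θ hx
      obtain ⟨Q', rfl⟩ := Polynomial.map_surjective (algebraMap A κ) residue_surjective Q
      rw [← hFmap] at hQ
      change P.map (algebraMap A κ) = F.map (algebraMap A κ) * Q'.map (algebraMap A κ) at hQ
      have h1 : P - F * Q' ∈ (maximalIdeal A).map (Polynomial.C : A →+* Polynomial A) :=
        Ideal.mem_map_C_iff.2 fun n => by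
          have := congrArg (fun r => Polynomial.coeff r n) hQ
          simp only [← Polynomial.map_mul, Polynomial.coeff_map] at this
          rw [← residue_eq_zero_iff, Polynomial.coeff_sub, map_sub, sub_eq_zero]
          exact this
      have := Ideal.mem_map_of_mem (AdjoinRoot.mk F) h1
      rw [Ideal.map_map, map_sub, map_mul, AdjoinRoot.mk_self, zero_mul, sub_zero] at this
      exact this
    · show φ (algebraMap A A₂ a) = 0
      rw [AlgHom.commutes, IsScalarTower.algebraMap_apply A κ L]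
      show algebraMap κ L (residue A a) = 0
      rw [(residue_eq_zero_iff a).2 ha, map_zero]
  haveI hmax₂ : (RingHom.ker φ).IsMaximal := RingHom.ker_isMaximal_of_surjective φ.toRingHom hφsurj
  haveI : IsLocalRing A₂ := .of_unique_max_ideal ⟨RingHom.ker φ, hmax₂, fun M hM => by
    haveI := hM
    haveI := Ideal.isMaximal_comap_of_isIntegral_of_isMaximal (R := A) M
    refine (hmax₂.eq_of_le hM.ne_top ?_).symm
    rw [hker, Ideal.map_le_iff_le_comap]
    exact (eq_maximalIdeal ‹(M.comap (algebraMap A A₂)).IsMaximal›).ge⟩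
  have hm₂ : maximalIdeal A₂ = (maximalIdeal A).map (algebraMap A A₂) :=
    (eq_maximalIdeal hmax₂).symm.trans hker
  let T := A₂ ⊗[A] C
  let ψ : T →ₐ[A] L := Algebra.TensorProduct.lift φ (IsScalarTower.toAlgHom A C L) fun _ _ => .all _ _
  have hψ : ∀ a c, ψ (a ⊗ₜ c) = φ a * residue C c := fun a c => by
    simp only [ψ, Algebra.TensorProduct.lift_tmul]; rfl
  have hψsurj : Function.Surjective ψ := fun x => by
    obtain ⟨c, rfl⟩ := residue_surjective x
    exact ⟨1 ⊗ₜ c, by rw [hψ, map_one, one_mul]⟩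
  let P : Ideal T := RingHom.ker ψ
  haveI : P.IsMaximal := RingHom.ker_isMaximal_of_surjective ψ.toRingHom hψsurj
  have hψa : ∀ a : A₂, ψ (algebraMap A₂ T a) = φ a := fun a => by
    show ψ (a ⊗ₜ (1 : C)) = φ a
    rw [hψ, map_one, mul_one]
  have hP : P.comap (algebraMap A₂ T) = maximalIdeal A₂ := by
    rw [hm₂, ← hker]
    exact Ideal.ext fun a => by
      show ψ (algebraMap A₂ T a) = 0 ↔ φ a = 0
      rw [hψa]
  let D := Localization.AtPrime P
  haveI : Module.Flat A₂ D := Module.Flat.trans A₂ T D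
  haveI : IsLocalHom (algebraMap A₂ D) := ((local_hom_TFAE _).out 0 4).2 (by
    rw [IsScalarTower.algebraMap_eq A₂ T D, ← Ideal.comap_comap,
      show (maximalIdeal D).comap (algebraMap T D) = P from IsLocalization.AtPrime.under_maximalIdeal D P, hP])
  haveI : Algebra.FormallyUnramified T D := Algebra.FormallyUnramified.of_isLocalization P.primeCompl
  haveI : Algebra.FormallyUnramified A₂ D := Algebra.FormallyUnramified.comp A₂ T D
  haveI : Algebra.EssFiniteType A₂ D := Algebra.EssFiniteType.comp A₂ T D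
  have hmD : (maximalIdeal A₂).map (algebraMap A₂ D) = maximalIdeal D :=
    Algebra.FormallyUnramified.map_maximalIdeal
  have hres : ∀ c : D, ∃ a : A₂, c - algebraMap A₂ D a ∈ (maximalIdeal A₂).map (algebraMap A₂ D) := by
    intro c
    obtain ⟨t, s, rfl⟩ := IsLocalization.exists_mk'_eq P.primeCompl c
    have hs : ψ s ≠ 0 := s.2
    obtain ⟨a, ha⟩ := hφsurj (ψ t * (ψ (s : T))⁻¹)
    refine ⟨a, ?_⟩
    rw [hmD, ← IsLocalRing.residue_eq_zero_iff, map_sub, sub_eq_zero]
    have h1 : t - algebraMap A₂ T a * s ∈ P := by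
      show ψ _ = 0
      rw [map_sub, map_mul, hψa, ha, inv_mul_cancel_right₀ hs, sub_self]
    have h2 : residue D (algebraMap T D (t - algebraMap A₂ T a * s)) = 0 :=
      (residue_eq_zero_iff _).2 ((IsLocalization.AtPrime.to_map_mem_maximal_iff D P _).2 h1)
    rw [map_sub, map_sub, map_mul, map_mul, sub_eq_zero, ← IsLocalization.mk'_spec D t s, map_mul,
      ← IsScalarTower.algebraMap_apply] at h2
    exact mul_right_cancel₀ (((IsLocalization.map_units D s).map (residue D)).ne_zero) h2
  let b := Module.Free.chooseBasis A A₂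
  let e : T ≃ₗ[A] _ := TensorProduct.equivFinsuppOfBasisLeft (N := C) b
  let ι₁ : D := algebraMap T D ((1 : A₂) ⊗ₜ[A] ι)
  have hι₁0 : ι₁ ≠ 0 := by
    intro h
    obtain ⟨⟨t, ht⟩, h'⟩ := (IsLocalization.map_eq_zero_iff P.primeCompl D _).1 h
    apply ht
    obtain ⟨f, rfl⟩ := e.symm.surjective t
    have h3 : e (e.symm f * ((1 : A₂) ⊗ₜ[A] ι)) = f.mapRange (· * ι) (zero_mul _) := by
      rw [TensorProduct.equivFinsuppOfBasisLeft_symm_apply, Finsupp.sum, Finset.sum_mul, map_sum]
      ext i
      have hm : ∀ (a : A₂) (c : C), e ((a ⊗ₜ[A] c : T) * ((1 : A₂) ⊗ₜ[A] ι)) i = b.repr a i • (c * ι) := by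
        intro a c
        have : (a ⊗ₜ[A] c : T) * ((1 : A₂) ⊗ₜ[A] ι) = a ⊗ₜ[A] (c * ι) :=
          (Algebra.TensorProduct.tmul_mul_tmul _ _ _ _).trans (by rw [mul_one])
        rw [this]
        exact TensorProduct.equivFinsuppOfBasisLeft_apply_tmul_apply b a (c * ι) i
      rw [Finsupp.coe_finsetSum, Finset.sum_apply, Finsupp.mapRange_apply]
      refine (Finset.sum_congr rfl fun j _ => hm (b j) (f j)).trans ?_
      rw [Finset.sum_eq_single i]
      · simp
      · intro j _ hj
        simp [hj]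
      · intro hi
        rw [Finsupp.notMem_support_iff.1 hi]
        simp
    have h4 : ∀ i, f i * ι = 0 := fun i => by
      have := congrArg (fun g => g i) (h3.symm.trans ((congrArg e h').trans (map_zero e)))
      simpa using this
    have h5 : ∀ i, residue C (f i) = 0 := fun i => (residue_eq_zero_iff _).2 fun hu =>
      hι0 (hu.mul_right_eq_zero.1 (h4 i))
    show ψ (e.symm f) = 0
    rw [TensorProduct.equivFinsuppOfBasisLeft_symm_apply, Finsupp.sum, map_sum]
    exact Finset.sum_eq_zero fun i _ => by rw [hψ, h5, mul_zero]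
  have hι₁ : ∀ z ∈ maximalIdeal A₂, z • ι₁ = 0 := by
    intro z hz
    rw [hm₂] at hz
    refine Submodule.span_induction (p := fun z _ => z • ι₁ = 0) ?_ (zero_smul _ _)
      (fun a b _ _ ha hb => by rw [add_smul, ha, hb, add_zero])
      (fun a b _ hb => by rw [smul_eq_mul, mul_smul, hb, smul_zero]) hz
    rintro _ ⟨z, hz, rfl⟩
    rw [algebraMap_smul, Algebra.smul_def, IsScalarTower.algebraMap_apply A T D, ← map_mul,
      ← Algebra.smul_def, ← tmul_smul, hι z hz, tmul_zero, map_zero]
  obtain ⟨w₂, hw₂⟩ := socle_trivial hres ι₁ hι₁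
  haveI : Module.FaithfullyFlat A₂ D := Module.FaithfullyFlat.of_flat_of_isLocalHom
  have hinj : Function.Injective (algebraMap A₂ D) := FaithfulSMul.algebraMap_injective A₂ D
  have hw0 : w₂ ≠ 0 := fun h => hι₁0 (by rw [← hw₂, h, map_zero])
  obtain ⟨i, hi⟩ : ∃ i, b.repr w₂ i ≠ 0 := by
    by_contra! h
    exact hw0 (b.repr.injective (Finsupp.ext fun i => by simpa using h i))
  refine ⟨_, hi, fun z hz => ?_⟩
  have : z • w₂ = 0 := hinj (by
    rw [map_zero, Algebra.smul_def, map_mul, hw₂, ← Algebra.smul_def]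
    exact hι₁ _ (by rw [hm₂]; exact Ideal.mem_map_of_mem _ hz))
  simpa using congrArg (fun v => b.repr v i) this

/-- A uniformly divisible element of a flat unramified local algebra gives an element of the base
killed by exactly the maximal ideal. -/
theorem exists_socle {A C : Type u} [CommRing A] [IsLocalRing A] [CommRing C] [IsLocalRing C]
    [Algebra A C] [IsLocalHom (algebraMap A C)] [Module.Flat A C] [Algebra.EssFiniteType A C]
    [Algebra.FormallyUnramified A C] (p : Ideal A) [p.IsPrime]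
    (hp : ∀ z, z ∈ p ↔ ∃ a, a ≠ 0 ∧ z * a = 0)
    (ι : C) (hι0 : ι ≠ 0) (hdiv : ∀ a : A, a ≠ 0 → ∃ e, ι = algebraMap A C a * e) :
    ∃ w : A, w ≠ 0 ∧ ∀ z ∈ maximalIdeal A, z * w = 0 := by
  have hpι : ∀ z ∈ p, algebraMap A C z * ι = 0 := fun z hz => by
    obtain ⟨a, ha, hza⟩ := (hp z).1 hz
    obtain ⟨e, rfl⟩ := hdiv a ha
    rw [← mul_assoc, ← map_mul, hza, map_zero, zero_mul]
  have hreg : ∀ s ∉ p, ∀ c : C, algebraMap A C s * c = 0 → c = 0 := fun s hs c hc => by
    have hinj : Function.Injective (LinearMap.lsmul A A s) := (injective_iff_map_eq_zero _).2 fun a ha =>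
      by_contra fun ha0 => hs ((hp s).2 ⟨a, ha0, ha⟩)
    have h2 := Module.Flat.lTensor_preserves_injective_linearMap (M := C) _ hinj
    have h3 : (LinearMap.lsmul A A s).lTensor C (c ⊗ₜ[A] (1 : A)) = 0 := by
      rw [LinearMap.lTensor_tmul, show LinearMap.lsmul A A s 1 = s • (1 : A) from rfl, ← smul_tmul,
        Algebra.smul_def, hc, zero_tmul]
    simpa using congrArg (TensorProduct.rid A C) (h2 (h3.trans (map_zero _).symm))
  let S : Submonoid C := p.primeCompl.map (algebraMap A C).toMonoidHom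
  have hdisj : Disjoint (↑(LinearMap.ker (LinearMap.toSpanSingleton C C ι)) : Set C) (S : Set C) := by
    refine Set.disjoint_left.2 fun x hx hxS => ?_
    obtain ⟨s, hs, rfl⟩ := hxS
    exact hι0 (hreg s hs ι hx)
  obtain ⟨P, hP, hle, hPS⟩ := Ideal.exists_le_prime_disjoint _ _ hdisj
  haveI := hP
  haveI : P.LiesOver p := ⟨le_antisymm
    (fun z hz => hle (show algebraMap A C z • ι = 0 by rw [smul_eq_mul, hpι z hz]))
    (fun z hz => by_contra fun hzp => Set.disjoint_left.1 hPS hz ⟨z, hzp, rfl⟩)⟩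
  letI := Localization.AtPrime.algebraOfLiesOver p P
  let Ap := Localization.AtPrime p
  let CP := Localization.AtPrime P
  haveI : IsLocalHom (algebraMap Ap CP) :=
    Localization.isLocalHom_localRingHom p P (algebraMap A C) Ideal.LiesOver.over
  haveI : Module.Flat Ap CP := inferInstance
  haveI : Algebra.FormallyUnramified C CP := Algebra.FormallyUnramified.of_isLocalization P.primeCompl
  haveI : Algebra.FormallyUnramified A CP := Algebra.FormallyUnramified.comp A C CP
  haveI : Algebra.EssFiniteType A CP := Algebra.EssFiniteType.comp A C CP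
  haveI : Algebra.EssFiniteType Ap CP := Algebra.EssFiniteType.of_comp A Ap CP
  haveI : Algebra.FormallyUnramified Ap CP := Algebra.FormallyUnramified.of_restrictScalars A Ap CP
  have hmap0 : algebraMap C CP ι ≠ 0 := fun h => by
    obtain ⟨⟨t, ht⟩, h'⟩ := (IsLocalization.map_eq_zero_iff P.primeCompl CP _).1 h
    exact ht (hle h')
  obtain ⟨w', hw'0, hw'⟩ := socle_transfer (A := Ap) (algebraMap C CP ι) hmap0 fun z hz => by
    obtain ⟨a, s, rfl⟩ := IsLocalization.exists_mk'_eq p.primeCompl z
    have ha : a ∈ p := (IsLocalization.AtPrime.mk'_mem_maximal_iff Ap p a s).1 hz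
    have h0 : a • algebraMap C CP ι = 0 := by
      rw [Algebra.smul_def, IsScalarTower.algebraMap_apply A C CP, ← map_mul, hpι a ha, map_zero]
    rw [IsLocalization.mk'_eq_mul_mk'_one, mul_comm, mul_smul, algebraMap_smul, h0, smul_zero]
  obtain ⟨w, s, rfl⟩ := IsLocalization.exists_mk'_eq p.primeCompl w'
  have hw0 : w ≠ 0 := fun h => hw'0 (by rw [h, IsLocalization.mk'_zero])
  have hpw : ∀ z ∈ p, z * w = 0 := fun z hz => by
    have := hw' (algebraMap A Ap z) ((IsLocalization.AtPrime.to_map_mem_maximal_iff Ap p z).2 hz)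
    rw [IsLocalization.mul_mk'_eq_mk'_of_mul, IsLocalization.mk'_eq_zero_iff] at this
    obtain ⟨⟨s', hs'⟩, h'⟩ := this
    exact by_contra fun h0 => hs' ((hp s').2 ⟨_, h0, h'⟩)
  refine ⟨w, hw0, fun z₀ hz₀ => ?_⟩
  by_cases hz₀p : z₀ ∈ p
  · exact hpw z₀ hz₀p
  exfalso
  obtain ⟨b, hb⟩ := hdiv w hw0
  have hbP : b ∉ P := by
    intro hbP
    apply hmap0
    have h1 : algebraMap C CP b ∈ maximalIdeal CP := (IsLocalization.AtPrime.to_map_mem_maximal_iff CP P b).2 hbP
    rw [← Algebra.FormallyUnramified.map_maximalIdeal (R := Ap) (S := CP),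
      ← Localization.AtPrime.map_eq_maximalIdeal, Ideal.map_map, ← IsScalarTower.algebraMap_eq] at h1
    rw [hb, map_mul, ← IsScalarTower.algebraMap_apply]
    refine Submodule.span_induction (p := fun x _ => algebraMap A CP w * x = 0) ?_ (mul_zero _)
      (fun a b _ _ ha hb => by rw [mul_add, ha, hb, add_zero])
      (fun a b _ hb => by rw [smul_eq_mul, mul_left_comm, hb, mul_zero]) h1
    rintro _ ⟨z, hz, rfl⟩
    rw [← map_mul, mul_comm, hpw z hz, map_zero]
  obtain ⟨d, hd, y, hy⟩ : ∃ d, d ∉ p ∧ ∃ y, algebraMap A C d - b * y ∈ P := by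
    haveI : Algebra.IsUnramifiedAt A P := ‹Algebra.FormallyUnramified A CP›
    haveI : Module.Finite p.ResidueField P.ResidueField := inferInstance
    have halg : IsAlgebraic p.ResidueField (algebraMap C P.ResidueField b) :=
      Algebra.IsAlgebraic.isAlgebraic _
    letI : Algebra (A ⧸ p) P.ResidueField :=
      ((algebraMap p.ResidueField P.ResidueField).comp (algebraMap (A ⧸ p) p.ResidueField)).toAlgebra
    haveI : IsScalarTower (A ⧸ p) p.ResidueField P.ResidueField := .of_algebraMap_eq' rfl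
    haveI : IsScalarTower (A ⧸ p) (C ⧸ P) P.ResidueField := .of_algebraMap_eq' <| by
      refine Ideal.Quotient.ringHom_ext (RingHom.ext fun a => ?_)
      show algebraMap p.ResidueField P.ResidueField (algebraMap A p.ResidueField a) =
        algebraMap C P.ResidueField (algebraMap A C a)
      rw [← IsScalarTower.algebraMap_apply, ← IsScalarTower.algebraMap_apply]
    have hbar : IsAlgebraic (A ⧸ p) (algebraMap C P.ResidueField b) :=
      (IsFractionRing.isAlgebraic_iff (A ⧸ p) p.ResidueField P.ResidueField).2 halg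
    have hinjq : Function.Injective (algebraMap (C ⧸ P) P.ResidueField) := IsFractionRing.injective _ _
    have hq : IsAlgebraic (A ⧸ p) (Ideal.Quotient.mk P b) :=
      (isAlgebraic_algebraMap_iff hinjq).1 hbar
    obtain ⟨r, hr0, c, hc⟩ := hq.exists_nonzero_dvd (mem_nonZeroDivisors_of_ne_zero fun h =>
      hbP (Ideal.Quotient.eq_zero_iff_mem.1 h))
    obtain ⟨d, rfl⟩ := Ideal.Quotient.mk_surjective r
    obtain ⟨y, rfl⟩ := Ideal.Quotient.mk_surjective c
    refine ⟨d, fun h => hr0 (Ideal.Quotient.eq_zero_iff_mem.2 h), y, ?_⟩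
    rw [← Ideal.Quotient.eq_zero_iff_mem, map_sub, map_mul, ← hc, sub_eq_zero]
    rfl
  have hne : z₀ * d * w ≠ 0 := fun h =>
    (Ideal.IsPrime.mem_or_mem ‹p.IsPrime› ((hp (z₀ * d)).2 ⟨w, hw0, h⟩)).elim hz₀p hd
  obtain ⟨e, he⟩ := hdiv _ hne
  have h0 : algebraMap A C w * (b - algebraMap A C (z₀ * d) * e) = 0 := by
    rw [mul_sub, ← hb, he, map_mul]; ring
  have h1 : b - algebraMap A C (z₀ * d) * e ∈ P := by
    refine hle (show (b - algebraMap A C (z₀ * d) * e) • ι = 0 from ?_)
    rw [smul_eq_mul, hb, ← mul_assoc, mul_comm (b - _), h0, zero_mul]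
  have hle' : (maximalIdeal A).map (algebraMap A C) ≤ maximalIdeal C :=
    ((local_hom_TFAE (algebraMap A C)).out 0 2).1 ‹IsLocalHom (algebraMap A C)›
  have hz₀C : algebraMap A C z₀ ∈ maximalIdeal C := hle' (Ideal.mem_map_of_mem _ hz₀)
  have hu : IsUnit (1 - algebraMap A C z₀ * (y * e)) := by
    by_contra h
    have := (maximalIdeal C).add_mem ((mem_maximalIdeal _).2 h) ((maximalIdeal C).mul_mem_right (y * e) hz₀C)
    rw [sub_add_cancel] at this
    exact (maximalIdeal.isMaximal C).ne_top ((Ideal.eq_top_iff_one _).2 this)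
  refine hbP ((Ideal.mul_unit_mem_iff_mem P hu).1 ?_)
  have h2 := P.add_mem h1 (P.mul_mem_left (algebraMap A C z₀ * e) hy)
  convert h2 using 1
  rw [map_mul]; ring

end Groth.Agent.CAlgH.InjModA
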