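import Groth.Agent.CAlgH.InjModA.Detect
import Groth.Agent.CAlgH.InjModA.Socle
import Groth.Agent.CAlgMisc1.Projective
import Mathlib.RingTheory.TensorProduct.Quotient

/-!
# Reflection of ideals from content ideals
-/

set_option autoImplicit false
set_option backward.isDefEq.respectTransparency false
set_option linter.style.haveILetI false

universe u

open TensorProduct Function IsLocalRing

namespace Groth.Agent.CAlgH.InjModA

open Groth.Agent FlatMorDevissage

theorem hasContent_of_equiv {R G G' : Type u} [CommRing R] [AddCommGroup G] [Module R G] [AddCommGroup G']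
    [Module R G'] (h : HasContent R G) (e : G ≃ₗ[R] G') : HasContent R G' := fun g => by
  obtain ⟨I, hfg, hI, hI'⟩ := h (e.symm g)
  refine ⟨I, hfg, by simpa using apply_mem_smul_top e.toLinearMap hI, fun J hJ => hI' J ?_⟩
  simpa using apply_mem_smul_top e.symm.toLinearMap hJ

/-- If `w v ∈ J M` with `M` flat and `w` killed modulo `J` only by `m`, then `v ∈ m M`. -/
theorem mem_maximal_smul_of_smul_mem {A M : Type u} [CommRing A] [IsLocalRing A] [AddCommGroup M]
    [Module A M] [Module.Flat A M] (J : Ideal A) {w : A} (hw : w ∉ J) {v : M}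
    (hv : w • v ∈ J • (⊤ : Submodule A M)) : v ∈ maximalIdeal A • (⊤ : Submodule A M) := by
  let f : A →ₗ[A] A ⧸ J := LinearMap.toSpanSingleton A (A ⧸ J) (Submodule.Quotient.mk w)
  have hker : LinearMap.ker f ≤ maximalIdeal A := fun r hr => by
    by_contra hu
    obtain ⟨r', hr'⟩ := (not_not.1 fun h => hu ((mem_maximalIdeal r).2 h) : IsUnit r)
    have h0 : Submodule.Quotient.mk (r • w) = (0 : A ⧸ J) := hr
    rw [Submodule.Quotient.mk_eq_zero, smul_eq_mul] at h0
    exact hw (by simpa [← mul_assoc, ← hr'] using J.mul_mem_left (↑r'⁻¹ : A) h0)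
  have h0 : f.lTensor M (v ⊗ₜ[A] (1 : A)) = 0 := by
    rw [LinearMap.lTensor_tmul, LinearMap.toSpanSingleton_apply, one_smul,
      show (Submodule.Quotient.mk w : A ⧸ J) = w • Submodule.Quotient.mk (1 : A) by
        rw [← Submodule.Quotient.mk_smul, smul_eq_mul, mul_one], ← smul_tmul]
    refine Submodule.smul_induction_on hv (fun a ha m _ => ?_) fun x y hx hy => by rw [add_tmul, hx, hy, add_zero]
    rw [smul_tmul, ← Submodule.Quotient.mk_smul, smul_eq_mul, mul_one,
      (Submodule.Quotient.mk_eq_zero J).2 ha, tmul_zero]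
  obtain ⟨z, hz⟩ := (Module.Flat.lTensor_exact (M := M) (LinearMap.exact_subtype_ker_map f) _).1 h0
  have key : ∀ z, TensorProduct.rid A M ((LinearMap.ker f).subtype.lTensor M z) ∈
      maximalIdeal A • (⊤ : Submodule A M) := fun z => by
    induction z using TensorProduct.induction_on with
    | zero => simp
    | tmul m k => simpa using Submodule.smul_mem_smul (hker k.2) (Submodule.mem_top (x := m))
    | add x y hx hy => rw [map_add, map_add]; exact add_mem hx hy
  have := key z
  rwa [hz, TensorProduct.rid_tmul, one_smul] at this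

set_option maxHeartbeats 800000 in
/-- **Reflection**: a map into a flat module injective modulo `m` reflects ideals, as soon as the source
is flat and has contents in a local étale chart. -/
theorem reflects_of_content {A B N G M : Type u} [CommRing A] [IsLocalRing A] [CommRing B] [IsLocalRing B]
    [Algebra A B] [IsLocalHom (algebraMap A B)] [Module.Flat A B] [Algebra.EssFiniteType A B]
    [Algebra.FormallyUnramified A B] [AddCommGroup N] [Module A N] [Module.Flat A N] [AddCommGroup G]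
    [Module B G] (w : N → G)
    (hw : ∀ (K : Ideal A) (x : N), x ∈ K • (⊤ : Submodule A N) ↔
      w x ∈ K.map (algebraMap A B) • (⊤ : Submodule B G))
    (hG : HasContent B G) [AddCommGroup M] [Module A M] [Module.Flat A M] (u : N →ₗ[A] M) (hu : ModInj u) :
    Reflects u := by
  classical
  intro J₀ x hux
  by_contra hx0
  obtain ⟨J, hJ₀, hJmax⟩ := zorn_le_nonempty₀ {J : Ideal A | x ∉ J • (⊤ : Submodule A N)}
    (fun c hc hchain J' hJ' => by
      refine ⟨sSup c, fun hmem => ?_, fun J hJ => le_sSup hJ⟩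
      let P : Submodule A N :=
        { carrier := {y | ∃ J ∈ c, y ∈ J • (⊤ : Submodule A N)}
          zero_mem' := ⟨J', hJ', zero_mem _⟩
          add_mem' := fun {a b} ⟨J₁, h₁, ha⟩ ⟨J₂, h₂, hb⟩ => (hchain.total h₁ h₂).elim
            (fun h => ⟨J₂, h₂, add_mem (Submodule.smul_mono_left h ha) hb⟩)
            (fun h => ⟨J₁, h₁, add_mem ha (Submodule.smul_mono_left h hb)⟩)
          smul_mem' := fun r y ⟨J, h, hy⟩ => ⟨J, h, Submodule.smul_mem _ r hy⟩ }
      obtain ⟨J, hJ, hxJ⟩ : x ∈ P := by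
        refine (Submodule.smul_le (P := P)).2 (fun a ha y _ => ?_) hmem
        obtain ⟨J, hJ, haJ⟩ := (Submodule.mem_sSup_of_directed ⟨J', hJ'⟩ hchain.directedOn).1 ha
        exact ⟨J, hJ, Submodule.smul_mem_smul haJ Submodule.mem_top⟩
      exact hc hJ hxJ) J₀ hx0
  have hxJ : x ∉ J • (⊤ : Submodule A N) := hJmax.1
  have huxJ : u x ∈ J • (⊤ : Submodule A M) := Submodule.smul_mono_left hJ₀ hux
  have hbig : ∀ a ∉ J, x ∈ (J ⊔ Ideal.span {a}) • (⊤ : Submodule A N) := fun a ha => by
    by_contra h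
    exact ha (hJmax.2 h le_sup_left ((le_sup_right : Ideal.span {a} ≤ J ⊔ Ideal.span {a})
      (Ideal.mem_span_singleton_self a)))
  have hinter : ∀ a₁ ∉ J, ∀ a₂ ∉ J, ∃ a ∉ J, a ∈ J ⊔ Ideal.span {a₁} ∧ a ∈ J ⊔ Ideal.span {a₂} := by
    intro a₁ h₁ a₂ h₂
    by_contra! hcon
    apply hxJ
    have hmem : x ∈ ((J ⊔ Ideal.span {a₁}) ⊓ (J ⊔ Ideal.span {a₂})) • (⊤ : Submodule A N) := by
      rw [← CAlgMisc1.inf_smul_top_eq]
      exact ⟨hbig a₁ h₁, hbig a₂ h₂⟩
    refine Submodule.smul_mono_left (fun a ha => ?_) hmem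
    by_contra haJ
    exact hcon a haJ ha.1 ha.2
  have hmul : ∀ {z a₁ a : A}, z * a₁ ∈ J → a ∈ J ⊔ Ideal.span {a₁} → z * a ∈ J := by
    intro z a₁ a h ha
    obtain ⟨j, hj, _, hr, rfl⟩ := Submodule.mem_sup.1 ha
    obtain ⟨r, rfl⟩ := Ideal.mem_span_singleton'.1 hr
    rw [mul_add, mul_left_comm]
    exact J.add_mem (J.mul_mem_left _ hj) (J.mul_mem_left _ h)
  have hJ1 : (1 : A) ∉ J := fun h => hxJ (by
    rw [(Ideal.eq_top_iff_one J).2 h, Submodule.top_smul]; trivial)
  let p : Ideal A :=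
    { carrier := {z | ∃ a ∉ J, z * a ∈ J}
      zero_mem' := ⟨1, hJ1, by simp⟩
      add_mem' := fun {z₁ z₂} ⟨a₁, h₁, k₁⟩ ⟨a₂, h₂, k₂⟩ => by
        obtain ⟨a, ha, ha₁, ha₂⟩ := hinter a₁ h₁ a₂ h₂
        exact ⟨a, ha, by rw [add_mul]; exact J.add_mem (hmul k₁ ha₁) (hmul k₂ ha₂)⟩
      smul_mem' := fun r z ⟨a, h, k⟩ => ⟨a, h, by rw [smul_eq_mul, mul_assoc]; exact J.mul_mem_left _ k⟩ }
  have hJp : J ≤ p := fun z hz => ⟨1, hJ1, by rwa [mul_one]⟩
  haveI : p.IsPrime := by
    refine ⟨(Ideal.ne_top_iff_one p).2 fun ⟨a, ha, h⟩ => ha (by rwa [one_mul] at h), fun {z z'} h => ?_⟩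
    obtain ⟨a, ha, hza⟩ := h
    by_cases h' : z' * a ∈ J
    · exact Or.inr ⟨a, ha, h'⟩
    · exact Or.inl ⟨z' * a, h', by rwa [← mul_assoc]⟩
  obtain ⟨I, hIfg, hI, hI'⟩ := hG (w x)
  have hnotle : ¬ I ≤ J.map (algebraMap A B) := fun h =>
    hxJ ((hw J x).2 (Submodule.smul_mono_left h hI))
  obtain ⟨ι, hιI, hιJ⟩ := SetLike.not_le_iff_exists.1 hnotle
  let A' := A ⧸ J
  let C := B ⧸ J.map (algebraMap A B)
  haveI : Nontrivial A' := Ideal.Quotient.nontrivial_iff.2 ((Ideal.ne_top_iff_one J).2 hJ1)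
  haveI : IsLocalRing A' := .of_surjective' _ Ideal.Quotient.mk_surjective
  haveI : Nontrivial C := Ideal.Quotient.nontrivial_iff.2 fun h => hιJ (h ▸ Submodule.mem_top)
  haveI : IsLocalRing C := .of_surjective' _ Ideal.Quotient.mk_surjective
  haveI : Module.Flat A' C := Module.Flat.of_linearEquiv
    (LinearEquiv.extendScalarsOfSurjective (R := A) (S := A') Ideal.Quotient.mk_surjective
      (((Algebra.TensorProduct.quotIdealMapEquivTensorQuot B J).toLinearEquiv.restrictScalars A).trans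
        (TensorProduct.comm A B A')))
  haveI : IsLocalHom (algebraMap A' C) := ⟨fun a ha => by
    obtain ⟨a, rfl⟩ := Ideal.Quotient.mk_surjective a
    have h1 : IsUnit (Ideal.Quotient.mk (J.map (algebraMap A B)) (algebraMap A B a)) := ha
    haveI : IsLocalHom (Ideal.Quotient.mk (J.map (algebraMap A B))) :=
      .of_surjective _ Ideal.Quotient.mk_surjective
    exact ((isUnit_of_map_unit (algebraMap A B) a) (isUnit_of_map_unit _ _ h1)).map _⟩
  haveI : Algebra.FormallyUnramified B C := Algebra.FormallyUnramified.quotient _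
  haveI : Algebra.FormallyUnramified A C := Algebra.FormallyUnramified.comp A B C
  haveI : Algebra.FormallyUnramified A' C := Algebra.FormallyUnramified.of_restrictScalars A A' C
  haveI : Algebra.EssFiniteType A C := Algebra.EssFiniteType.comp A B C
  haveI : Algebra.EssFiniteType A' C := Algebra.EssFiniteType.of_comp A A' C
  haveI : (p.map (Ideal.Quotient.mk J)).IsPrime :=
    Ideal.map_isPrime_of_surjective Ideal.Quotient.mk_surjective (by rwa [Ideal.mk_ker])
  obtain ⟨w', hw'0, hw'⟩ := exists_socle (A := A') (C := C) (p.map (Ideal.Quotient.mk J)) (fun z => by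
      obtain ⟨z, rfl⟩ := Ideal.Quotient.mk_surjective z
      rw [Ideal.mem_quotient_iff_mem_sup, sup_eq_left.2 hJp]
      constructor
      · rintro ⟨a, ha, hza⟩
        exact ⟨Ideal.Quotient.mk J a, fun h => ha (Ideal.Quotient.eq_zero_iff_mem.1 h), by
          rw [← map_mul]; exact Ideal.Quotient.eq_zero_iff_mem.2 hza⟩
      · rintro ⟨a, ha, hza⟩
        obtain ⟨a, rfl⟩ := Ideal.Quotient.mk_surjective a
        exact ⟨a, fun h => ha (Ideal.Quotient.eq_zero_iff_mem.2 h), by
          rwa [← map_mul, Ideal.Quotient.eq_zero_iff_mem] at hza⟩)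
    (Ideal.Quotient.mk _ ι) (fun h => hιJ (Ideal.Quotient.eq_zero_iff_mem.1 h)) (fun a ha => by
      obtain ⟨a, rfl⟩ := Ideal.Quotient.mk_surjective a
      have haJ : a ∉ J := fun h => ha (Ideal.Quotient.eq_zero_iff_mem.2 h)
      have h1 := hI' _ ((hw _ x).1 (hbig a haJ)) hιI
      rw [Ideal.map_sup, Ideal.map_span, Set.image_singleton] at h1
      obtain ⟨j, hj, _, hr, e⟩ := Submodule.mem_sup.1 h1
      obtain ⟨r, rfl⟩ := Ideal.mem_span_singleton'.1 hr
      refine ⟨Ideal.Quotient.mk _ r, ?_⟩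
      show Ideal.Quotient.mk _ ι = Ideal.Quotient.mk _ (algebraMap A B a) * Ideal.Quotient.mk _ r
      rw [← map_mul, Ideal.Quotient.mk_eq_mk_iff_sub_mem, ← e, mul_comm, add_sub_cancel_right]
      exact hj)
  obtain ⟨v, rfl⟩ := Ideal.Quotient.mk_surjective w'
  have hv : v ∉ J := fun h => hw'0 (Ideal.Quotient.eq_zero_iff_mem.2 h)
  have hvm : ∀ z ∈ maximalIdeal A, z * v ∈ J := fun z hz => by
    have hzm : Ideal.Quotient.mk J z ∈ maximalIdeal A' := by
      rw [mem_maximalIdeal, mem_nonunits_iff]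
      intro h
      haveI : IsLocalHom (Ideal.Quotient.mk J) := .of_surjective _ Ideal.Quotient.mk_surjective
      exact (mem_maximalIdeal z).1 hz (isUnit_of_map_unit _ _ h)
    have := hw' _ hzm
    rwa [← map_mul, Ideal.Quotient.eq_zero_iff_mem] at this
  have hx1 := hbig v hv
  rw [Submodule.sup_smul, Submodule.ideal_span_singleton_smul] at hx1
  obtain ⟨j, hj, y, hy, rfl⟩ := Submodule.mem_sup.1 hx1
  obtain ⟨x₀, -, rfl⟩ := hy
  change u (j + v • x₀) ∈ _ at huxJ
  rw [map_add, map_smul] at huxJ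
  have h3 := hu x₀ (mem_maximal_smul_of_smul_mem J hv
    ((Submodule.add_mem_iff_right _ (apply_mem_smul_top u hj)).1 huxJ))
  refine hxJ (add_mem hj ?_)
  show v • x₀ ∈ _
  refine Submodule.smul_induction_on h3 (fun z hz n _ => ?_) fun a b ha hb => by rw [smul_add]; exact add_mem ha hb
  rw [smul_smul, mul_comm]
  exact Submodule.smul_mem_smul (hvm z hz) Submodule.mem_top

end Groth.Agent.CAlgH.InjModA
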