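import Groth.Agent.CAlgH.InjModA.Detect
import Mathlib.RingTheory.Etale.StandardEtale

/-!
# Detection systems from families of maps into a flat module
-/

set_option autoImplicit false
set_option backward.isDefEq.respectTransparency false

universe u

open TensorProduct Function IsLocalRing

namespace Groth.Agent.CAlgH.InjModA

open Groth.Agent FlatMorDevissage

/-- A family of maps from a finite free module to a flat module, jointly injective modulo `m`,
detects every ideal. -/
theorem free_of_family {R : Type u} [CommRing R] [IsLocalRing R] {M : Type u} [AddCommGroup M]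
    [Module R M] [Module.Flat R M] {κ : Type u} [Fintype κ] {α : Type u} (v : α → (κ → R) →ₗ[R] M)
    (hv : ∀ c, (∀ i, v i c ∈ maximalIdeal R • (⊤ : Submodule R M)) →
      c ∈ maximalIdeal R • (⊤ : Submodule R (κ → R)))
    (J : Ideal R) (c : κ → R) (hc : ∀ i, v i c ∈ J • (⊤ : Submodule R M)) :
    c ∈ J • (⊤ : Submodule R (κ → R)) := by
  classical
  let k := ResidueField R
  let π : (κ → R) →ₗ[R] (κ → k) := LinearMap.pi fun j => (Algebra.linearMap R k).comp (LinearMap.proj j)
  have hπ : ∀ d, π d = 0 ↔ d ∈ maximalIdeal R • (⊤ : Submodule R (κ → R)) := by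
    intro d
    constructor
    · intro hd
      rw [← Finset.univ_sum_single d]
      refine Submodule.sum_mem _ fun j _ => ?_
      have hj : d j ∈ maximalIdeal R := (residue_eq_zero_iff _).1 (congrFun hd j)
      rw [show Pi.single j (d j) = d j • (Pi.single j 1 : κ → R) by
        ext i; by_cases h : i = j <;> simp [h]]
      exact Submodule.smul_mem_smul hj Submodule.mem_top
    · intro hd
      funext j
      have := apply_mem_smul_top (LinearMap.proj (R := R) (φ := fun _ : κ => R) j) hd
      rw [Ideal.smul_top_eq_map, Algebra.algebraMap_self, Ideal.map_id] at this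
      exact (residue_eq_zero_iff _).2 this
  haveI : Module.Finite R (κ → k) := inferInstance
  haveI : IsSimpleModule R k := isSimpleModule_iff_isCoatom.2 (maximalIdeal.isMaximal R).out
  haveI : IsArtinian R k := inferInstance
  haveI : IsArtinian R (κ → k) := inferInstance
  let W : Finset α → Submodule R (κ → k) := fun s =>
    (⨅ i ∈ s, (maximalIdeal R • (⊤ : Submodule R M)).comap (v i)).map π
  obtain ⟨_, ⟨s, rfl⟩, hmin⟩ := (wellFounded_lt (α := Submodule R (κ → k))).has_min (Set.range W)
    ⟨W ∅, ⟨∅, rfl⟩⟩
  have hs : ∀ d, (∀ i ∈ s, v i d ∈ maximalIdeal R • (⊤ : Submodule R M)) →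
      d ∈ maximalIdeal R • (⊤ : Submodule R (κ → R)) := by
    intro d hd
    refine hv d fun i => ?_
    have hle : W (insert i s) ≤ W s := Submodule.map_mono (biInf_mono fun j hj => Finset.mem_insert_of_mem hj)
    have heq : W (insert i s) = W s := eq_of_le_of_not_lt hle (hmin _ ⟨_, rfl⟩)
    have hdW : π d ∈ W s := ⟨d, by simpa using hd, rfl⟩
    rw [← heq] at hdW
    obtain ⟨d', hd', hdd⟩ := hdW
    simp only [SetLike.mem_coe, Submodule.mem_iInf, Submodule.mem_comap] at hd'
    have h1 := hd' i (Finset.mem_insert_self _ _)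
    have h2 := apply_mem_smul_top (v i) ((hπ (d - d')).1 (by rw [map_sub, hdd, sub_self]))
    simpa using add_mem h2 h1
  let V : (κ → R) →ₗ[R] (s → M) := LinearMap.pi fun i => v i
  have hsmul : ∀ (J : Ideal R) (y : s → M), (∀ i, y i ∈ J • (⊤ : Submodule R M)) →
      y ∈ J • (⊤ : Submodule R (s → M)) := fun J y hy => by
    rw [← Finset.univ_sum_single y]
    exact Submodule.sum_mem _ fun i _ => apply_mem_smul_top (LinearMap.single R (fun _ : s => M) i) (hy i)
  haveI : Module.Flat R (s → M) := Module.Flat.of_linearEquiv (DirectSum.linearEquivFunOnFintype R s fun _ => M).symm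
  refine reflects_of_free V ((modInj_iff V).1 fun d hd => hs d fun i hi => ?_) J c (hsmul J _ fun i => hc i)
  exact apply_mem_smul_top (LinearMap.proj (R := R) (φ := fun _ : s => M) ⟨i, hi⟩) hd

end Groth.Agent.CAlgH.InjModA
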