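import Groth.Agent.FlatMorDevissage.InjMod
import Groth.Agent.CAlgH3.FlatExt
import Groth.Agent.Props12.FlatOver

/-!
# Detection systems along a dévissage chain

A detection system on a module `G` over a local ring `R` is a family of submodules `K J ⊇ J G` with
`K m = m G` which satisfies `ψ c ∈ K J → c ∈ J` for maps `ψ` from finite free modules which are
injective modulo `m`.  At the point of a chain, the existence of such a system forces `G` to be flat,
`K J = J G`, and every element of `G` to have a content ideal.
-/

set_option autoImplicit false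
set_option backward.isDefEq.respectTransparency false

universe u

open TensorProduct Function IsLocalRing

namespace Groth.Agent.CAlgH.InjModA

open Groth.Agent FlatMorDevissage

section Basic

variable {R : Type u} [CommRing R]

theorem apply_mem_smul_top {X Y : Type u} [AddCommGroup X] [Module R X] [AddCommGroup Y] [Module R Y]
    (f : X →ₗ[R] Y) {J : Ideal R} {x : X} (h : x ∈ J • (⊤ : Submodule R X)) :
    f x ∈ J • (⊤ : Submodule R Y) :=
  Submodule.smul_top_le_comap_smul_top J f h

/-- Every element has a content ideal. -/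
def HasContent (R G : Type u) [CommRing R] [AddCommGroup G] [Module R G] : Prop :=
  ∀ g : G, ∃ I : Ideal R, I.FG ∧ g ∈ I • (⊤ : Submodule R G) ∧
    ∀ J : Ideal R, g ∈ J • (⊤ : Submodule R G) → I ≤ J

theorem hasContent_of_free (F : Type u) [AddCommGroup F] [Module R F] [Module.Free R F] :
    HasContent R F := by
  classical
  intro x
  let b := Module.Free.chooseBasis R F
  refine ⟨Ideal.span (((b.repr x).support.image fun i => b.repr x i : Finset R) : Set R),
    ⟨_, rfl⟩, ?_, fun J hJ => ?_⟩
  · nth_rewrite 3 [← b.linearCombination_repr x]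
    rw [Finsupp.linearCombination_apply, Finsupp.sum]
    exact Submodule.sum_mem _ fun i hi => Submodule.smul_mem_smul
      (Ideal.subset_span (Finset.mem_coe.2 (Finset.mem_image_of_mem _ hi))) Submodule.mem_top
  · rw [Ideal.span_le]
    intro a ha
    obtain ⟨i, -, rfl⟩ := Finset.mem_image.1 (Finset.mem_coe.1 ha)
    have := apply_mem_smul_top (b.coord i) hJ
    rwa [Ideal.smul_top_eq_map, Algebra.algebraMap_self, Ideal.map_id] at this

end Basic

variable {R : Type u} [CommRing R] [IsLocalRing R]

/-- A detection system. -/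
structure IsDet (R G : Type u) [CommRing R] [IsLocalRing R] [AddCommGroup G] [Module R G]
    (K : Ideal R → Submodule R G) : Prop where
  le : ∀ J, J • (⊤ : Submodule R G) ≤ K J
  max : K (maximalIdeal R) ≤ maximalIdeal R • ⊤
  free : ∀ {κ : Type u} [Fintype κ] (ψ : (κ → R) →ₗ[R] G),
    (∀ c, ψ c ∈ K (maximalIdeal R) → c ∈ maximalIdeal R • (⊤ : Submodule R (κ → R))) →
      ∀ J c, ψ c ∈ K J → c ∈ J • (⊤ : Submodule R (κ → R))

/-- A detection system forces flatness and is trivial. -/
def DetProp (R G : Type u) [CommRing R] [IsLocalRing R] [AddCommGroup G] [Module R G] : Prop :=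
  ∀ K : Ideal R → Submodule R G, IsDet R G K →
    Module.Flat R G ∧ (∀ J, K J ≤ J • ⊤) ∧ HasContent R G

variable {N : Type u} [AddCommGroup N] [Module R N]

theorem DetProp.of_subsingleton [Subsingleton N] : DetProp R N := fun K _ =>
  ⟨inferInstance, fun J x _ => by rw [Subsingleton.elim x 0]; exact zero_mem _,
    fun g => ⟨⊥, Submodule.fg_bot, by rw [Subsingleton.elim g 0]; exact zero_mem _, fun _ _ => bot_le⟩⟩

theorem DetProp.of_equiv {N' : Type u} [AddCommGroup N'] [Module R N'] (h : DetProp R N)
    (e : N ≃ₗ[R] N') : DetProp R N' := fun K hK => by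
  have he : ∀ (J : Ideal R) (x : N), x ∈ J • (⊤ : Submodule R N) ↔ e x ∈ J • (⊤ : Submodule R N') :=
    fun J x => ⟨apply_mem_smul_top e.toLinearMap, fun hx => by
      simpa using apply_mem_smul_top e.symm.toLinearMap hx⟩
  obtain ⟨h1, h2, h3⟩ := h (fun J => (K J).comap e.toLinearMap)
    { le := fun J x hx => hK.le J ((he J x).1 hx)
      max := fun x hx => (he _ x).2 (hK.max hx)
      free := fun ψ hψ => hK.free (e.toLinearMap ∘ₗ ψ) hψ }
  refine ⟨Module.Flat.of_linearEquiv e.symm, fun J y hy => ?_, fun g => ?_⟩
  · have : e.symm y ∈ (K J).comap e.toLinearMap := by simpa using hy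
    simpa using (he J _).1 (h2 J this)
  · obtain ⟨I, hfg, hI, hI'⟩ := h3 (e.symm g)
    refine ⟨I, hfg, by simpa using (he I _).1 hI, fun J hJ => hI' J ((he J _).2 (by simpa using hJ))⟩

/-- A detection system detects maps from free modules. -/
theorem IsDet.detects_free {K : Ideal R → Submodule R N} (hK : IsDet R N K) {F : Type u} [AddCommGroup F]
    [Module R F] [Module.Free R F] (w : F →ₗ[R] N)
    (hw : ∀ x, w x ∈ K (maximalIdeal R) → x ∈ maximalIdeal R • (⊤ : Submodule R F))
    (J : Ideal R) (x : F) (hx : w x ∈ K J) : x ∈ J • (⊤ : Submodule R F) := by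
  classical
  let b := Module.Free.chooseBasis R F
  let I := (b.repr x).support
  let inc : (I → R) →ₗ[R] F := Fintype.linearCombination R fun i : I => b i
  let prj : F →ₗ[R] (I → R) := LinearMap.pi fun i : I => b.coord i
  have hpi : ∀ c, prj (inc c) = c := fun c => funext fun i => by
    simp only [prj, inc, LinearMap.pi_apply, Fintype.linearCombination_apply, Module.Basis.coord_apply,
      map_sum, map_smul, Module.Basis.repr_self, Finsupp.coe_finsetSum, Finset.sum_apply, Finsupp.smul_apply,
      Finsupp.single_apply, smul_eq_mul, mul_ite, mul_one, mul_zero, Subtype.coe_inj,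
      Finset.sum_ite_eq', Finset.mem_univ, if_true]
  have hx' : inc (prj x) = x := by
    conv_rhs => rw [← b.linearCombination_repr x, Finsupp.linearCombination_apply, Finsupp.sum,
      ← Finset.sum_coe_sort]
    simp [inc, prj, I, Fintype.linearCombination_apply]
  have hψ := hK.free (w ∘ₗ inc)
    (fun c hc => by
      have := apply_mem_smul_top prj (hw _ hc)
      rwa [hpi] at this)
    J (prj x) (by rw [LinearMap.comp_apply, hx']; exact hx)
  rw [← hx']
  exact apply_mem_smul_top inc hψ

/-- One step: a free piece and a cokernel with the property. -/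
theorem DetProp.of_exact {N₁ N₂ : Type u} [AddCommGroup N₁] [Module R N₁] [Module.Flat R N₁]
    [AddCommGroup N₂] [Module R N₂] (a : N₁ →ₗ[R] N) (b : N →ₗ[R] N₂) (hab : Exact a b)
    (hb : Surjective b) (h₂ : DetProp R N₂) (F : Type u) [AddCommGroup F] [Module R F] [Module.Free R F]
    (h₁ : ∀ v : N₁, ∃ (w : F →ₗ[R] N₁) (x : F), w x = v ∧
      ∀ x', a (w x') ∈ maximalIdeal R • (⊤ : Submodule R N) → x' ∈ maximalIdeal R • (⊤ : Submodule R F)) :
    DetProp R N := fun K hK => by
  have h₁' : ∀ v : N₁, ∃ (w : F →ₗ[R] N₁) (x : F), w x = v ∧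
      ∀ J, a v ∈ K J → x ∈ J • (⊤ : Submodule R F) := fun v => by
    obtain ⟨w, x, rfl, hw⟩ := h₁ v
    exact ⟨w, x, rfl, fun J hJ => hK.detects_free (a ∘ₗ w) (fun x' hx' => hw x' (hK.max hx')) J x hJ⟩
  have hsplit : ∀ (y : N) (z : N), b y = b z → ∃ v, y = z + a v := fun y z h => by
    obtain ⟨v, hv⟩ := (hab (y - z)).1 (by rw [map_sub, h, sub_self])
    exact ⟨v, by rw [hv, add_sub_cancel]⟩
  have hdet : IsDet R N₂ fun J => (K J).map b :=
    { le := fun J => by
        refine le_trans ?_ (Submodule.map_mono (hK.le J))
        rw [Submodule.map_smul'', Submodule.map_top, LinearMap.range_eq_top.2 hb]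
      max := by
        refine (Submodule.map_mono hK.max).trans ?_
        rw [Submodule.map_smul'']
        exact Submodule.smul_mono le_rfl le_top
      free := fun {κ} _ ψ hψ J c hc => by
        classical
        choose l hl using fun i : κ => hb (ψ (Pi.single i 1))
        let ψ' : (κ → R) →ₗ[R] N := Fintype.linearCombination R l
        have hψ' : ∀ d, b (ψ' d) = ψ d := fun d => by
          conv_rhs => rw [← Finset.univ_sum_single d, map_sum]
          simp only [ψ', Fintype.linearCombination_apply, map_sum, map_smul, hl]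
          refine Finset.sum_congr rfl fun i _ => ?_
          rw [← map_smul]
          congr 1
          ext j
          by_cases h : j = i <;> simp [Pi.single_apply, h]
        obtain ⟨y, hy, hyc⟩ := hc
        obtain ⟨v, rfl⟩ := hsplit y (ψ' c) (hyc.trans (hψ' c).symm)
        obtain ⟨w, x, rfl, hw⟩ := h₁ v
        let w' : (κ → R) × F →ₗ[R] N := ψ'.coprod (a ∘ₗ w)
        have hw' : ∀ z : (κ → R) × F, w' z ∈ K (maximalIdeal R) →
            z ∈ maximalIdeal R • (⊤ : Submodule R ((κ → R) × F)) := by
          rintro ⟨d, x'⟩ hz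
          have hd : d ∈ maximalIdeal R • (⊤ : Submodule R (κ → R)) := hψ d ⟨_, hz, by
            simp only [w', LinearMap.coprod_apply, LinearMap.comp_apply, map_add, hψ',
              hab.apply_apply_eq_zero, add_zero]⟩
          have hx' : x' ∈ maximalIdeal R • (⊤ : Submodule R F) := hw x' (by
            have h1 := hK.max hz
            have h2 := apply_mem_smul_top ψ' hd
            simp only [w', LinearMap.coprod_apply, LinearMap.comp_apply] at h1
            exact (Submodule.add_mem_iff_right _ h2).1 h1)
          have := add_mem (apply_mem_smul_top (LinearMap.inl R (κ → R) F) hd)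
            (apply_mem_smul_top (LinearMap.inr R (κ → R) F) hx')
          simpa using this
        have := hK.detects_free w' hw' J (c, x) (by simpa [w'] using hy)
        simpa using apply_mem_smul_top (LinearMap.fst R (κ → R) F) this }
  obtain ⟨hflat, hKJ, hcont⟩ := h₂ _ hdet
  have ha : Injective a := (injective_iff_map_eq_zero _).2 fun v hv => by
    obtain ⟨w, x, rfl, hx⟩ := h₁' v
    have := hx ⊥ (by rw [hv]; exact zero_mem _)
    rw [Submodule.bot_smul, Submodule.mem_bot] at this
    rw [this, map_zero]
  have hlift : ∀ (J : Ideal R) (y : N₂), y ∈ J • (⊤ : Submodule R N₂) →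
      ∃ z ∈ J • (⊤ : Submodule R N), b z = y := fun J y hy => by
    rw [← LinearMap.range_eq_top.2 hb, ← Submodule.map_top, ← Submodule.map_smul''] at hy
    exact hy
  refine ⟨CAlgH3.flat_of_extension a b ha hb hab, fun J g hg => ?_, fun g => ?_⟩
  · obtain ⟨z, hz, hzg⟩ := hlift J (b g) (hKJ J (Submodule.mem_map_of_mem hg))
    obtain ⟨v, rfl⟩ := hsplit g z hzg.symm
    obtain ⟨w, x, rfl, hx⟩ := h₁' v
    refine add_mem hz (apply_mem_smul_top (a ∘ₗ w) (hx J ?_))
    simpa using (K J).sub_mem hg (hK.le J hz)
  · obtain ⟨I, hIfg, hI, hI'⟩ := hcont (b g)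
    obtain ⟨z, hz, hzg⟩ := hlift I (b g) hI
    obtain ⟨v, rfl⟩ := hsplit g z hzg.symm
    obtain ⟨w, x, rfl, hx⟩ := h₁' v
    obtain ⟨I₁, hfg₁, hx₁, hx₁'⟩ := hasContent_of_free (R := R) F x
    refine ⟨I ⊔ I₁, Submodule.FG.sup hIfg hfg₁, add_mem (Submodule.smul_mono_left le_sup_left hz)
      (Submodule.smul_mono_left le_sup_right (apply_mem_smul_top (a ∘ₗ w) hx₁)), fun J hJ => ?_⟩
    have hIJ : I ≤ J := hI' J (apply_mem_smul_top b hJ)
    refine sup_le hIJ (hx₁' J (hx J (hK.le J ?_)))
    simpa using Submodule.sub_mem _ hJ (Submodule.smul_mono_left hIJ hz)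

section Key

variable {D G : Type u} [CommRing D] [Algebra R D] [Algebra.Smooth R D]
  [((maximalIdeal R).map (algebraMap R D)).IsPrime] [AddCommGroup G] [Module D G] [Module R G]
  [IsScalarTower R D G]

/-- A step of the dévissage. -/
theorem detProp_step (hdom : FibresDomain R D) (y : Ideal D) [y.IsPrime]
    (hy : (maximalIdeal R).map (algebraMap R D) ≤ y) {r : ℕ} (α : (Fin r → D) →ₗ[D] G)
    (hα : Injective (α.baseChange ((maximalIdeal R).map (algebraMap R D)).ResidueField))
    (h : DetProp R (LocalizedModule y.primeCompl (G ⧸ LinearMap.range α))) :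
    DetProp R (LocalizedModule y.primeCompl G) := by
  have : Module.Free R D := free_of_fibresDomain hdom
  have : Module.Flat R (LocalizedModule y.primeCompl (Fin r → D)) :=
    Props12.flat_localizedModule _ _
  refine DetProp.of_exact ((LocalizedModule.map y.primeCompl α).restrictScalars R)
    ((LocalizedModule.map y.primeCompl (LinearMap.range α).mkQ).restrictScalars R)
    (LocalizedModule.map_exact _ α _ (LinearMap.exact_map_mkQ_range α))
    (LocalizedModule.map_surjective _ _ (Submodule.mkQ_surjective _)) h (Fin r → D) fun v => ?_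
  induction v using LocalizedModule.induction_on with
  | h x s =>
    let ψ : (Fin r → D) →ₗ[R] LocalizedModule y.primeCompl (Fin r → D) :=
      { toFun := fun w => LocalizedModule.mk w s
        map_add' := fun a b => by
          rw [LocalizedModule.mk_add_mk, LocalizedModule.mk_eq]
          exact ⟨1, by simp only [one_smul, Submonoid.smul_def, smul_add, mul_smul]⟩
        map_smul' := fun a w => by simp [LocalizedModule.smul'_mk] }
    refine ⟨ψ, x, rfl, fun x' h1 => ?_⟩
    have h2 := smul_mem_smul_top (maximalIdeal R) (s : D) h1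
    have h3 : LocalizedModule.mkLinearMap y.primeCompl G (α x') ∈
        maximalIdeal R • (⊤ : Submodule R (LocalizedModule y.primeCompl G)) := by
      convert h2 using 1
      show LocalizedModule.mk (α x') 1 = (s : D) • LocalizedModule.map y.primeCompl α
        (LocalizedModule.mk x' s)
      rw [LocalizedModule.map_mk, LocalizedModule.smul'_mk, LocalizedModule.mk_eq]
      exact ⟨1, by simp [Submonoid.smul_def]⟩
    obtain ⟨c, hc, hcm⟩ := exists_smul_mem_of_mk_mem y.primeCompl _ (α x') h3
    let K := ((maximalIdeal R).map (algebraMap R D)).ResidueField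
    have h0 : ∀ g ∈ maximalIdeal R • (⊤ : Submodule R G), (1 : K) ⊗ₜ[D] g = 0 := by
      intro g hg
      refine Submodule.smul_induction_on hg (fun a ha v _ => ?_)
        fun v w hv hw => by rw [tmul_add, hv, hw, add_zero]
      rw [← algebraMap_smul D a v, ← TensorProduct.smul_tmul, Algebra.smul_def, mul_one,
        (Ideal.algebraMap_residueField_eq_zero).2 (Ideal.mem_map_of_mem _ ha), zero_tmul]
    have h4 : algebraMap D K c • α.baseChange K ((1 : K) ⊗ₜ x') = 0 := by
      rw [LinearMap.baseChange_tmul, algebraMap_smul, ← tmul_smul]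
      exact h0 _ hcm
    have hcK : algebraMap D K c ≠ 0 := fun h => hc (hy (Ideal.algebraMap_residueField_eq_zero.1 h))
    have h5 : (1 : K) ⊗ₜ[D] x' = 0 :=
      hα (((smul_eq_zero.1 h4).resolve_left hcK).trans (map_zero _).symm)
    refine mem_smul_top_of_mem_ξ x' fun i => ?_
    have h6 := congrArg (fun v => TensorProduct.rid D K
      ((LinearMap.proj (R := D) (φ := fun _ : Fin r => D) i).lTensor K v)) h5
    simp only [LinearMap.lTensor_tmul, LinearMap.proj_apply, TensorProduct.rid_tmul, map_zero] at h6
    rw [Algebra.smul_def, mul_one] at h6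
    exact Ideal.algebraMap_residueField_eq_zero.1 h6

end Key

section Transfer

variable {B A : Type u} [CommRing B] [CommRing A] [Algebra B A]
  [Algebra R B] [Algebra R A] [IsScalarTower R B A] {y : Ideal B} [y.IsPrime]
  {Q : Ideal A} [Q.IsPrime] [Q.LiesOver y] {G : Type u} [AddCommGroup G] [Module A G] [Module B G]
  [IsScalarTower B A G] [Module R G] [IsScalarTower R B G] [IsScalarTower R A G]

theorem detProp_iff (h : DividesBase y Q) :
    DetProp R (LocalizedModule Q.primeCompl G) ↔ DetProp R (LocalizedModule y.primeCompl G) := by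
  have := isLocalizedModule_restrictScalars (G := G) h
  have : IsScalarTower R B (LocalizedModule Q.primeCompl G) := ⟨fun r b z => by
    induction z using LocalizedModule.induction_on with
    | h g s => simp only [LocalizedModule.smul'_mk, smul_assoc]⟩
  let e := (IsLocalizedModule.iso y.primeCompl
    ((LocalizedModule.mkLinearMap Q.primeCompl G).restrictScalars B)).restrictScalars R
  exact ⟨fun hf => hf.of_equiv e.symm, fun hf => hf.of_equiv e⟩

end Transfer

theorem DetProp.localized_congr {R B : Type u} [CommRing R] [IsLocalRing R] [CommRing B]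
    [Algebra R B] {y : Ideal B} [y.IsPrime] {G G' : Type u} [AddCommGroup G] [Module B G] [Module R G]
    [IsScalarTower R B G] [AddCommGroup G'] [Module B G'] [Module R G'] [IsScalarTower R B G']
    (h : DetProp R (LocalizedModule y.primeCompl G')) (e : G ≃ₗ[B] G') :
    DetProp R (LocalizedModule y.primeCompl G) := by
  have : IsLocalizedModule y.primeCompl
      ((LocalizedModule.mkLinearMap y.primeCompl G').comp e.toLinearMap) :=
    IsLocalizedModule.of_linearEquiv_right _ _ e
  exact h.of_equiv ((IsLocalizedModule.iso y.primeCompl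
    ((LocalizedModule.mkLinearMap y.primeCompl G').comp e.toLinearMap)).restrictScalars R).symm

theorem detProp_of_step {R : Type u} [CommRing R] [IsLocalRing R] {S : Type u} [CommRing S]
    [Algebra R S] {N : Type u} [AddCommGroup N] [Module S N] [Module R N] [IsScalarTower R S N]
    {q : Ideal S} [q.IsPrime] (s : Step R (maximalIdeal R) S N q)
    (h : ∀ [Module R (s.M ⧸ LinearMap.range s.α)] [IsScalarTower R s.B (s.M ⧸ LinearMap.range s.α)],
      DetProp R (LocalizedModule s.qB.primeCompl (s.M ⧸ LinearMap.range s.α))) :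
    DetProp R (LocalizedModule q.primeCompl N) := by
  let _ : Module R s.M := Module.compHom s.M (algebraMap R s.B)
  have : IsScalarTower R s.B s.M := .of_algebraMap_smul fun _ _ => rfl
  have : IsScalarTower R s.A s.M := isScalarTower_of_three R s.B s.A s.M
  have : IsScalarTower R S s.M := isScalarTower_of_top R S s.A s.M
  have := s.smooth
  have := s.finiteBA
  have hB : DetProp R (LocalizedModule s.qB.primeCompl s.M) :=
    detProp_step s.dom s.qB (Ideal.map_le_iff_le_comap.2 (s.qB.over_def (maximalIdeal R)).le)
      s.α s.fibreIso.injective h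
  have hA : DetProp R (LocalizedModule s.qA.primeCompl s.M) :=
    (detProp_iff (dividesBase_of_finite s.qB s.qA fun Q _ hQ => s.uniq Q hQ)).2 hB
  have : s.qA.LiesOver q := ⟨s.q0.symm⟩
  exact ((detProp_iff (dividesBase_of_surjective s.surjSA q s.qA)).1 hA).localized_congr s.isoN

/-- The property at the point of a chain over a local base. -/
theorem detProp_of_chain {R : Type u} [CommRing R] [IsLocalRing R] {S : Type u} [CommRing S]
    [Algebra R S] {N : Type u} [AddCommGroup N] [Module S N] {q : Ideal S}
    (hc : Chain R (maximalIdeal R) S N q) [Module R N] [IsScalarTower R S N] [q.IsPrime] :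
    DetProp R (LocalizedModule q.primeCompl N) := by
  rename_i iR it hq
  revert iR it hq
  induction hc with
  | last s hs =>
    intro _ _ _
    refine detProp_of_step s fun {_} {_} => ?_
    have : Subsingleton (s.M ⧸ LinearMap.range s.α) :=
      Submodule.Quotient.subsingleton_iff.2 (LinearMap.range_eq_top.2 hs)
    have : Subsingleton (LocalizedModule s.qB.primeCompl (s.M ⧸ LinearMap.range s.α)) :=
      (IsLocalizedModule.iso s.qB.primeCompl
        (LocalizedModule.mkLinearMap s.qB.primeCompl (s.M ⧸ LinearMap.range s.α))).symm.toEquiv.subsingleton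
    exact .of_subsingleton
  | cons s _ ih =>
    intro _ _ _
    exact detProp_of_step s fun {_} {_} => ih (hq := s.hqB)

end Groth.Agent.CAlgH.InjModA
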