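import Groth.Agent.CAlgH.InjModA.Family
import Mathlib.RingTheory.Localization.BaseChange

/-!
# The detection system on a localised finite free étale chart

`E` is finite free over `S ⊗ R'`, `L` is a local ring of `E` and `B` a local ring of `R'`.
A map `u : N → M` which is injective modulo the maximal ideal yields a detection system on
`L ⊗ (E ⊗ N)` over `B`.
-/

set_option autoImplicit false
set_option backward.isDefEq.respectTransparency false
set_option linter.style.haveILetI false

universe u

open TensorProduct Function IsLocalRing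

namespace Groth.Agent.CAlgH.InjModA

open Groth.Agent FlatMorDevissage

attribute [local instance] Algebra.TensorProduct.rightAlgebra

section

variable {A R' B S E L : Type u} [CommRing A] [CommRing R'] [Algebra A R'] [CommRing B] [IsLocalRing B]
  [Algebra A B] [Algebra R' B] [IsScalarTower A R' B] [CommRing S] [Algebra A S]
  [CommRing E] [Algebra A E] [Algebra R' E] [Algebra S E] [Algebra (S ⊗[A] R') E]
  [IsScalarTower A S E] [IsScalarTower A R' E] [IsScalarTower S (S ⊗[A] R') E]
  [IsScalarTower R' (S ⊗[A] R') E] [CommRing L] [Algebra A L] [Algebra E L] [Algebra B L]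
  [Algebra R' L] [Algebra S L] [IsScalarTower A E L] [IsScalarTower A B L] [IsScalarTower R' B L]
  [IsScalarTower R' E L] [IsScalarTower S E L]
  {N M : Type u} [AddCommGroup N] [Module A N] [Module S N] [IsScalarTower A S N]
  [AddCommGroup M] [Module A M] [Module.Flat A M]

set_option maxHeartbeats 1600000 in
theorem exists_isDet_local (p' : Ideal R') [p'.IsPrime] [IsLocalization.AtPrime B p']
    (qE : Ideal E) [qE.IsPrime] [IsLocalization.AtPrime L qE]
    (hqp : ∀ s ∉ p', algebraMap R' E s ∉ qE)
    {n : Type u} [Fintype n] (bE : Module.Basis n (S ⊗[A] R') E)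
    (u : N →ₗ[A] M) (hu : ModInj (u.baseChange B)) :
    ∃ K : Ideal B → Submodule B (L ⊗[E] (E ⊗[S] N)), IsDet B (L ⊗[E] (E ⊗[S] N)) K := by
  classical
  let G₀ := E ⊗[S] N
  let G := L ⊗[E] G₀
  let π : G₀ →ₗ[E] G := TensorProduct.mk E L G₀ 1
  haveI : IsLocalizedModule qE.primeCompl π := inferInstanceAs
    (IsLocalizedModule qE.primeCompl (TensorProduct.mk E L G₀ 1))
  let uB := u.baseChange B
  let Γ₀ : S ⊗[A] R' →ₗ[A] N →ₗ[A] B ⊗[A] N := TensorProduct.lift <| LinearMap.mk₂ A
    (fun s r => (TensorProduct.mk A B N (algebraMap R' B r)).comp ((LinearMap.lsmul S N s).restrictScalars A))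
    (fun s s' r => LinearMap.ext fun x => by simp [add_smul, tmul_add])
    (fun a s r => LinearMap.ext fun x => by simp [smul_assoc, tmul_smul])
    (fun s r r' => LinearMap.ext fun x => by simp [add_tmul])
    (fun a s r => LinearMap.ext fun x => by
      simp [Algebra.smul_def a r, map_mul, ← IsScalarTower.algebraMap_apply, smul_tmul',
        Algebra.smul_def])
  have hΓ₀ : ∀ s r x, Γ₀ (s ⊗ₜ r) x = algebraMap R' B r ⊗ₜ[A] (s • x) := fun s r x => rfl
  have hΓs : ∀ (c : S) x m, Γ₀ (c • x) m = Γ₀ x (c • m) := fun c x m => by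
    induction x using TensorProduct.induction_on with
    | zero => simp
    | tmul s r => rw [smul_tmul', hΓ₀, hΓ₀, smul_eq_mul, mul_comm, mul_smul]
    | add x y hx hy => simp [smul_add, hx, hy]
  have hΓr : ∀ (r : R') x m, Γ₀ ((1 : S) ⊗ₜ[A] r * x) m = algebraMap R' B r • Γ₀ x m := fun r x m => by
    induction x using TensorProduct.induction_on with
    | zero => simp
    | tmul s r' =>
      rw [Algebra.TensorProduct.tmul_mul_tmul, one_mul, hΓ₀, hΓ₀, smul_tmul', smul_eq_mul, map_mul]
    | add x y hx hy => simp [mul_add, hx, hy]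
  let Θ : n → G₀ →+ B ⊗[A] N := fun i => TensorProduct.liftAddHom
    { toFun := fun e => (Γ₀ (bE.coord i e)).toAddMonoidHom
      map_zero' := by ext m; simp
      map_add' := fun e e' => by ext m; simp }
    fun c e m => by
      show Γ₀ (bE.coord i (c • e)) m = Γ₀ (bE.coord i e) (c • m)
      rw [← hΓs, ← algebraMap_smul (S ⊗[A] R') c e, map_smul, algebraMap_smul]
  have hΘ : ∀ i e m, Θ i (e ⊗ₜ[S] m) = Γ₀ (bE.coord i e) m := fun i e m => rfl
  have hΘr : ∀ i (r : R') g, Θ i (algebraMap R' E r • g) = algebraMap R' B r • Θ i g := fun i r g => by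
    induction g using TensorProduct.induction_on with
    | zero => simp
    | tmul e m =>
      rw [smul_tmul', hΘ, hΘ, IsScalarTower.algebraMap_apply R' (S ⊗[A] R') E, algebraMap_smul,
        map_smul, smul_eq_mul]
      exact hΓr r _ _
    | add x y hx hy => rw [smul_add, map_add, map_add, hx, hy, smul_add]
  have hπr : ∀ (r : R') (y : G₀), algebraMap R' B r • π y = π (algebraMap R' E r • y) := fun r y => by
    rw [map_smul, ← algebraMap_smul L (algebraMap R' B r) (π y), ← algebraMap_smul L (algebraMap R' E r) (π y),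
      ← IsScalarTower.algebraMap_apply, ← IsScalarTower.algebraMap_apply]
  let σ : n → B ⊗[A] N →ₗ[B] G := fun i => LinearMap.liftBaseChange B
    ((π.restrictScalars A).comp
      ({
        toFun := fun m => bE i ⊗ₜ[S] m
        map_add' := tmul_add _
        map_smul' := fun a m => by
          show bE i ⊗ₜ[S] (a • m) = a • bE i ⊗ₜ[S] m
          rw [← algebraMap_smul S a m, tmul_smul, algebraMap_smul] } : N →ₗ[A] G₀))
  have hσ : ∀ i x m, σ i (Γ₀ x m) = π ((x • bE i) ⊗ₜ[S] m) := fun i x m => by
    induction x using TensorProduct.induction_on with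
    | zero => simp
    | tmul s r =>
      rw [hΓ₀, LinearMap.liftBaseChange_tmul]
      show algebraMap R' B r • π (bE i ⊗ₜ[S] (s • m)) = _
      rw [hπr, ← smul_tmul, smul_tmul', smul_eq_mul, Algebra.smul_def, Algebra.smul_def,
        IsScalarTower.algebraMap_apply R' (S ⊗[A] R') E r, IsScalarTower.algebraMap_apply S (S ⊗[A] R') E s,
        ← mul_assoc, ← map_mul]
      refine congrArg (fun z => π ((algebraMap (S ⊗[A] R') E z * bE i) ⊗ₜ[S] m)) ?_
      show ((1 : S) ⊗ₜ[A] r) * (s ⊗ₜ[A] (1 : R')) = _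
      rw [Algebra.TensorProduct.tmul_mul_tmul, one_mul, mul_one]
    | add x y hx hy => simp [add_smul, add_tmul, hx, hy]
  have hdec : ∀ g, π g = ∑ i, σ i (Θ i g) := fun g => by
    induction g using TensorProduct.induction_on with
    | zero => simp
    | tmul e m =>
      simp only [hΘ, hσ, Module.Basis.coord_apply]
      rw [← map_sum, ← sum_tmul, bE.sum_repr]
    | add x y hx hy => simp [map_add, hx, hy, Finset.sum_add_distrib]
  let K₀ : Ideal B → Submodule E G₀ := fun J =>
    { carrier := {g | ∀ (e : E) i, uB (Θ i (e • g)) ∈ J • (⊤ : Submodule B (B ⊗[A] M))}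
      zero_mem' := fun e i => by simp
      add_mem' := fun ha hb e i => by rw [smul_add, map_add, map_add]; exact add_mem (ha e i) (hb e i)
      smul_mem' := fun e' g hg e i => by rw [smul_smul]; exact hg _ i }
  have hrE : ∀ (r : R') (J : Ideal B) g, algebraMap R' B r ∈ J → algebraMap R' E r • g ∈ K₀ J :=
    fun r J g hr e i => by
      rw [smul_comm, hΘr, map_smul]
      exact Submodule.smul_mem_smul hr Submodule.mem_top
  have hsE : ∀ s : p'.primeCompl, algebraMap R' E s ∈ qE.primeCompl := fun s => hqp s s.2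
  -- clearing a denominator of `B`
  have hclear : ∀ (c : B) (t : E) (z : G) (g : G₀), t • z = π g →
      ∃ (r : R') (s : p'.primeCompl), algebraMap R' B r = algebraMap R' B s * c ∧
        (algebraMap R' E s * t) • (c • z) = π (algebraMap R' E r • g) := fun c t z g h => by
    obtain ⟨⟨r, s⟩, hs⟩ := IsLocalization.surj p'.primeCompl c
    refine ⟨r, s, by rw [← hs, mul_comm], ?_⟩
    rw [← hπr, ← h, mul_smul, smul_comm t c z, ← algebraMap_smul L (algebraMap R' E (s : R')) (c • t • z),
      ← IsScalarTower.algebraMap_apply, IsScalarTower.algebraMap_apply R' B L, algebraMap_smul,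
      smul_smul, ← hs, mul_comm]
  let K : Ideal B → Submodule B G := fun J =>
    { carrier := {z | ∃ t ∈ qE.primeCompl, ∃ g ∈ K₀ J, t • z = π g}
      zero_mem' := ⟨1, one_mem _, 0, zero_mem _, by simp⟩
      add_mem' := fun {x y} ⟨t, ht, g, hg, h⟩ ⟨t', ht', g', hg', h'⟩ =>
        ⟨t * t', mul_mem ht ht', t' • g + t • g', add_mem ((K₀ J).smul_mem t' hg) ((K₀ J).smul_mem t hg'), by
          rw [smul_add, map_add, map_smul, map_smul, ← h, ← h', smul_smul, smul_smul, mul_comm t' t]⟩
      smul_mem' := fun c z ⟨t, ht, g, hg, h⟩ => by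
        obtain ⟨r, s, -, hrs⟩ := hclear c t z g h
        exact ⟨_, mul_mem (hsE s) ht, _, (K₀ J).smul_mem _ hg, hrs⟩ }
  refine ⟨K, ⟨fun J => ?_, ?_, ?_⟩⟩
  · refine Submodule.smul_le.2 fun a ha z _ => ?_
    obtain ⟨⟨g, t⟩, h⟩ := IsLocalizedModule.surj qE.primeCompl π z
    obtain ⟨r, s, hr, hrs⟩ := hclear a t z g h
    exact ⟨_, mul_mem (hsE s) t.2, _, hrE r J g (hr ▸ J.mul_mem_left _ ha), hrs⟩
  · rintro z ⟨t, ht, g, hg, h⟩
    have h1 : π g ∈ maximalIdeal B • (⊤ : Submodule B G) := by
      rw [hdec]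
      exact Submodule.sum_mem _ fun i _ => apply_mem_smul_top (σ i) (hu _ (by simpa using hg 1 i))
    obtain ⟨v, hv⟩ := IsLocalization.map_units L (⟨t, ht⟩ : qE.primeCompl)
    have h2 := FlatMorDevissage.smul_mem_smul_top (D := L) (maximalIdeal B) (↑v⁻¹ : L) h1
    rwa [← h, ← algebraMap_smul L t z, ← hv, smul_smul, Units.inv_mul, one_smul] at h2
  · intro κ _ ψ hψ J c hc
    choose gt hgt using fun j : κ => IsLocalizedModule.surj qE.primeCompl π (ψ (Pi.single j 1))
    let t₀ : E := ∏ j, ((gt j).2 : E)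
    have ht₀ : t₀ ∈ qE.primeCompl := prod_mem fun j _ => (gt j).2.2
    let g' : κ → G₀ := fun j => (∏ k ∈ Finset.univ.erase j, ((gt k).2 : E)) • (gt j).1
    have hg' : ∀ j, t₀ • ψ (Pi.single j 1) = π (g' j) := fun j => by
      show t₀ • _ = _
      simp only [g', map_smul, ← hgt j, Submonoid.smul_def, smul_smul]
      rw [show t₀ = _ from (Finset.mul_prod_erase _ _ (Finset.mem_univ j)).symm, mul_comm]
    let lin : (κ → R') → G₀ := fun r => ∑ j, algebraMap R' E (r j) • g' j
    have hlin : ∀ r : κ → R', t₀ • ψ (fun j => algebraMap R' B (r j)) = π (lin r) := fun r => by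
      have : (fun j => algebraMap R' B (r j)) = ∑ j, algebraMap R' B (r j) • (Pi.single j 1 : κ → B) := by
        ext i
        simp [Finset.sum_apply, Pi.single_apply, Algebra.algebraMap_eq_smul_one]
      rw [this, map_sum, Finset.smul_sum, map_sum]
      refine Finset.sum_congr rfl fun j _ => ?_
      rw [← hπr, ← hg', map_smul, smul_comm]
    have hclr : ∀ d : κ → B, ∃ (r : κ → R') (s : p'.primeCompl),
        algebraMap R' B s • d = fun j => algebraMap R' B (r j) := fun d => by
      obtain ⟨s, hs⟩ := IsLocalization.exist_integer_multiples p'.primeCompl Finset.univ d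
      choose r hr using fun j => hs j (Finset.mem_univ j)
      refine ⟨r, s, funext fun j => ?_⟩
      rw [hr j, Pi.smul_apply, smul_eq_mul]
      exact (Algebra.smul_def _ _).symm
    obtain ⟨r, s, hrs⟩ := hclr c
    have hcr : ψ (fun j => algebraMap R' B (r j)) ∈ K J := by
      rw [← hrs, map_smul]
      exact (K J).smul_mem _ hc
    obtain ⟨t', ht', g'', hg'', h''⟩ := hcr
    obtain ⟨t, ht⟩ : ∃ t : qE.primeCompl, t • t' • lin r = t • t₀ • g'' :=
      IsLocalizedModule.exists_of_eq (f := π) (by
        rw [map_smul, map_smul, ← hlin, ← h'', smul_comm])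
    let T₁ : E := (t : E) * t'
    have hT₁ : T₁ ∈ qE.primeCompl := mul_mem t.2 ht'
    have hT : T₁ • lin r ∈ K₀ J := by
      show ((t : E) * t') • lin r ∈ K₀ J
      rw [mul_smul, ← Submonoid.smul_def, ht, Submonoid.smul_def]
      exact (K₀ J).smul_mem _ ((K₀ J).smul_mem _ hg'')
    let v : E × n → (κ → B) →ₗ[B] B ⊗[A] M := fun ei =>
      Fintype.linearCombination B fun j => uB (Θ ei.2 (ei.1 • T₁ • g' j))
    have hvr : ∀ (r : κ → R') ei, v ei (fun j => algebraMap R' B (r j)) = uB (Θ ei.2 (ei.1 • T₁ • lin r)) := by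
      intro r ei
      simp only [v, Fintype.linearCombination_apply, lin, Finset.smul_sum, map_sum]
      refine Finset.sum_congr rfl fun j _ => ?_
      rw [← smul_comm (algebraMap R' E (r j)) T₁, ← smul_comm (algebraMap R' E (r j)) ei.1, hΘr, uB.map_smul]
    have hunit : ∀ (s : p'.primeCompl) (I : Ideal B) (d : κ → B),
        algebraMap R' B s • d ∈ I • (⊤ : Submodule B (κ → B)) → d ∈ I • (⊤ : Submodule B (κ → B)) :=
      fun s I d h => by
        obtain ⟨w, hw⟩ := IsLocalization.map_units B s
        have := Submodule.smul_mem _ (↑w⁻¹ : B) h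
        rwa [← hw, smul_smul, Units.inv_mul, one_smul] at this
    refine hunit s J c ?_
    rw [hrs]
    refine free_of_family v (fun d hd => ?_) J _ fun ei => ?_
    · obtain ⟨r₂, s₂, hr₂⟩ := hclr d
      refine hunit s₂ _ d ?_
      rw [hr₂]
      refine hψ _ ⟨T₁ * t₀, mul_mem hT₁ ht₀, T₁ • lin r₂, fun e i => ?_, ?_⟩
      · rw [← hvr r₂ (e, i), ← hr₂, map_smul]
        exact Submodule.smul_mem _ _ (hd (e, i))
      · rw [mul_smul, hlin, map_smul]
    · rw [hvr]
      exact hT ei.1 ei.2

end

end Groth.Agent.CAlgH.InjModA
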