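import Groth.Agent.CAlgH.InjModA.LocalDet
import Groth.Agent.CAlgH.InjModA.Reflect
import Groth.Agent.FlatMorDevissage.InjModEss

/-!
# Maps to flat modules injective modulo the maximal ideal (linear over the base only)
-/

set_option autoImplicit false
set_option backward.isDefEq.respectTransparency false
set_option linter.style.haveILetI false

universe u

open TensorProduct Function IsLocalRing

namespace Groth.Agent.CAlgH.InjModA

open Groth.Agent FlatMorDevissage

attribute [local instance] Algebra.TensorProduct.rightAlgebra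

theorem modInj_baseChange {A B N M : Type u} [CommRing A] [IsLocalRing A] [CommRing B] [IsLocalRing B]
    [Algebra A B] [IsLocalHom (algebraMap A B)] [AddCommGroup N] [Module A N] [AddCommGroup M] [Module A M]
    (u : N →ₗ[A] M) (hu : ModInj u) : ModInj (u.baseChange B) := by
  let k := ResidueField A
  let kB := ResidueField B
  let r : B →ₗ[A] kB := (IsScalarTower.toAlgHom A B kB).toLinearMap
  have hkB : Injective (u.lTensor kB) := by
    let eN := AlgebraTensorModule.cancelBaseChange A k k kB N
    let eM := AlgebraTensorModule.cancelBaseChange A k k kB M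
    have h1 : Injective ((u.baseChange k).lTensor kB) :=
      Module.Flat.lTensor_preserves_injective_linearMap _ ((modInj_iff u).1 hu)
    have h2 : ∀ z, u.lTensor kB (eN z) = eM ((u.baseChange k).lTensor kB z) := fun z => by
      induction z using TensorProduct.induction_on with
      | zero => simp
      | add x y hx hy => simp only [map_add, hx, hy]
      | tmul c w =>
        induction w using TensorProduct.induction_on with
        | zero => simp
        | add x y hx hy => simp only [tmul_add, map_add, hx, hy]
        | tmul d n => simp [eN, eM]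
    intro a b hab
    obtain ⟨a, rfl⟩ := eN.surjective a
    obtain ⟨b, rfl⟩ := eN.surjective b
    rw [h2, h2] at hab
    rw [h1 (eM.injective hab)]
  intro z hz
  have hz0 : r.rTensor M (u.baseChange B z) = 0 := by
    refine Submodule.smul_induction_on hz (fun a ha w hwtop => ?_) fun x y hx hy => by rw [map_add, hx, hy, add_zero]
    clear hwtop
    induction w using TensorProduct.induction_on with
    | zero => simp
    | add x y hx hy => rw [smul_add, map_add, hx, hy, add_zero]
    | tmul c m =>
      rw [smul_tmul', LinearMap.rTensor_tmul, show r (a • c) = 0 from ?_, zero_tmul]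
      show residue B (a * c) = 0
      exact (residue_eq_zero_iff _).2 (Ideal.mul_mem_right _ _ ha)
  have hz1 : r.rTensor N z = 0 := by
    apply hkB
    rw [map_zero, ← LinearMap.comp_apply, LinearMap.lTensor_comp_rTensor, ← LinearMap.rTensor_comp_lTensor,
      LinearMap.comp_apply]
    exact hz0
  let m : Submodule A B := (maximalIdeal B).restrictScalars A
  have hex : Exact m.subtype r := fun b => by
    constructor
    · intro hb
      exact ⟨⟨b, (residue_eq_zero_iff b).1 hb⟩, rfl⟩
    · rintro ⟨b, rfl⟩
      exact (residue_eq_zero_iff _).2 b.2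
  obtain ⟨w, rfl⟩ := (rTensor_exact N hex residue_surjective z).1 hz1
  clear hz hz0 hz1
  induction w using TensorProduct.induction_on with
  | zero => simp
  | add x y hx hy => rw [map_add]; exact add_mem hx hy
  | tmul c n =>
    rw [LinearMap.rTensor_tmul, Submodule.subtype_apply,
      show (c : B) ⊗ₜ[A] n = (c : B) • ((1 : B) ⊗ₜ[A] n) by rw [smul_tmul', smul_eq_mul, mul_one]]
    exact Submodule.smul_mem_smul c.2 Submodule.mem_top

/-- The data of an étale chart of `S` finite free over `S ⊗ R'`. -/
theorem isLocalization_chart {S' X E L : Type u} [CommRing S'] [CommRing X] [CommRing E] [CommRing L]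
    [IsLocalRing L] [Algebra S' X] [Algebra S' L] [Algebra X L] [IsScalarTower S' X L]
    [Algebra E X] [Algebra E L] [IsScalarTower E X L] (f : S') [IsLocalization.Away f X] (g : E)
    [IsLocalization.Away g X] (q' : Ideal S') [q'.IsPrime] [IsLocalization.AtPrime L q'] (hf : f ∉ q') :
    IsLocalization.AtPrime L ((maximalIdeal L).comap (algebraMap E L)) := by
  have hmem : ∀ e : E, e ∈ ((maximalIdeal L).comap (algebraMap E L)).primeCompl ↔ IsUnit (algebraMap E L e) :=
    fun e => by rw [Ideal.mem_primeCompl_iff, Ideal.mem_comap, mem_maximalIdeal]; exact not_not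
  have hgu : IsUnit (algebraMap E L g) := by
    rw [IsScalarTower.algebraMap_apply E X L]
    exact (IsLocalization.Away.algebraMap_isUnit g).map _
  have key : ∀ s : S', ∃ (e : E) (k : ℕ), algebraMap S' L s * algebraMap E L g ^ k = algebraMap E L e ∧
      algebraMap S' X s * algebraMap E X g ^ k = algebraMap E X e := fun s => by
    obtain ⟨k, e, he⟩ := IsLocalization.Away.surj g (algebraMap S' X s)
    refine ⟨e, k, ?_, he⟩
    simpa [← IsScalarTower.algebraMap_apply] using congrArg (algebraMap X L) he
  refine (isLocalization_iff _ _).2 ⟨?_, ?_, fun {x y} hxy => ?_⟩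
  · rintro ⟨y, hy⟩
    exact (hmem y).1 hy
  · intro l
    obtain ⟨⟨a, s⟩, hs⟩ := IsLocalization.surj q'.primeCompl l
    obtain ⟨ea, ka, ha, -⟩ := key a
    obtain ⟨es, ks, hes, -⟩ := key s
    refine ⟨(ea * g ^ ks, ⟨es * g ^ ka, (hmem _).2 ?_⟩), ?_⟩
    · rw [map_mul, map_pow, ← hes]
      exact ((IsLocalization.map_units L s).mul (hgu.pow _)).mul (hgu.pow _)
    · simp only [map_mul, map_pow, ← ha, ← hes, ← hs]
      ring
  · obtain ⟨k, z, hz⟩ := IsLocalization.Away.surj f (algebraMap E X x - algebraMap E X y)
    have hz0 : algebraMap S' L z = 0 := by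
      rw [IsScalarTower.algebraMap_apply S' X L, ← hz, map_mul, map_sub, ← IsScalarTower.algebraMap_apply,
        ← IsScalarTower.algebraMap_apply, hxy, sub_self, zero_mul]
    obtain ⟨⟨s, hs⟩, hsz⟩ := (IsLocalization.map_eq_zero_iff q'.primeCompl L z).1 hz0
    obtain ⟨e, j, he, heX⟩ := key (s * f ^ k)
    have h1 : algebraMap E X (e * (x - y)) = 0 := by
      rw [map_mul, map_sub, ← heX, map_mul, map_pow,
        show algebraMap S' X s * algebraMap S' X f ^ k * algebraMap E X g ^ j * (algebraMap E X x - algebraMap E X y) =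
          algebraMap E X g ^ j * (algebraMap S' X s * ((algebraMap E X x - algebraMap E X y) * algebraMap S' X f ^ k)) by ring,
        hz, ← map_mul, show s * z = 0 from hsz, map_zero, mul_zero]
    obtain ⟨⟨c, ⟨i, rfl⟩⟩, hc⟩ := (IsLocalization.map_eq_zero_iff (Submonoid.powers g) X _).1 h1
    refine ⟨⟨g ^ i * e, (hmem _).2 ?_⟩, ?_⟩
    · rw [map_mul, map_pow, ← he]
      exact (hgu.pow _).mul ((IsLocalization.map_units L (⟨s * f ^ k, mul_mem hs (pow_mem hf k)⟩ : q'.primeCompl)).mul
        (hgu.pow _))
    · have hc' : g ^ i * (e * (x - y)) = 0 := hc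
      show g ^ i * e * x = g ^ i * e * y
      linear_combination hc'

set_option maxHeartbeats 1600000 in
/-- The finite type form at a point. -/
theorem injMod_linear {A S : Type u} [CommRing A] [IsLocalRing A] [CommRing S] [Algebra A S]
    [Algebra.FiniteType A S] (q : Ideal S) [q.IsPrime] [q.LiesOver (maximalIdeal A)]
    {N₀ N M : Type u} [AddCommGroup N₀] [Module S N₀] [Module.Finite S N₀]
    [AddCommGroup N] [Module S N] [Module A N] [IsScalarTower A S N] (φ : N₀ →ₗ[S] N)
    [IsLocalizedModule q.primeCompl φ] [AddCommGroup M] [Module A M] [Module.Flat A M]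
    (u : N →ₗ[A] M) (hu : ModInj u) : Module.Flat A N ∧ Reflects u := by
  have hN : ∀ c ∉ q, Bijective fun x : N => c • x := fun c hc =>
    (Module.End.isUnit_iff _).1 (IsLocalizedModule.map_units φ (⟨c, hc⟩ : q.primeCompl))
  by_cases hNq : Module.annihilator S N₀ ≤ q
  swap
  · obtain ⟨a, haN, haq⟩ := SetLike.not_le_iff_exists.1 hNq
    have : Subsingleton N := subsingleton_of_forall_eq 0 fun n => by
      obtain ⟨⟨n₀, t⟩, ht⟩ := IsLocalizedModule.surj q.primeCompl φ n
      apply (hN _ t.2).1
      apply (hN a haq).1
      simp only [smul_zero]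
      rw [show (t : S) • n = φ n₀ from ht, ← map_smul, Module.mem_annihilator.1 haN, map_zero]
    exact ⟨inferInstance, fun J x _ => by rw [Subsingleton.elim x 0]; exact zero_mem _⟩
  obtain ⟨n, hd⟩ : ∃ n : ℕ, ∀ w : PrimeSpectrum S, EGA43.FibDepth.trd A w ≤ n := by
    obtain ⟨s, f, hf⟩ :=
      Algebra.FiniteType.iff_quotient_mvPolynomial''.1 ‹Algebra.FiniteType A S›
    refine ⟨s, fun w => ?_⟩
    rw [← EGA43.FibDepth.trd_comap_of_surjectiveOnStalks f
      (RingHom.surjectiveOnStalks_of_surjective hf) w]
    exact EGA43.FibDepth.trd_mvPolynomial_le _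
  obtain ⟨R', S', _, _, _, _, _, _, _, _, p', q', _, _, hR, hS, ho, hch⟩ :=
    exists_hasChainNhd n N₀ (maximalIdeal A) q (fun w _ _ _ => hd w) hNq
  obtain ⟨hRe, hRo, -⟩ := hR
  obtain ⟨hSe, hSo, -⟩ := hS
  let B := Localization.AtPrime p'
  let m := maximalIdeal B
  have hmp' : m.LiesOver p' := ⟨(IsLocalization.AtPrime.under_maximalIdeal B p').symm⟩
  obtain ⟨T, NT, _, _, _, _, _, _, _, _, _, _, _, _, _, μ, hμ⟩ :=
    exists_model R' B S' (S' ⊗[S] N₀)
  haveI hpush' : Algebra.IsPushout R' S' B T := ‹_›
  have hpush : Algebra.IsPushout R' B S' T := Algebra.IsPushout.symm ‹_›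
  obtain ⟨q'', hq'', hq''q', hq''m⟩ := exists_prime_isPushout (S' := T) p' m
    ((RingHom.surjectiveOnStalks_of_isLocalization (M := p'.primeCompl)
      B).residueFieldMap_bijective p' m (m.over_def p')) q'
  have hchain : Chain B m T NT q'' :=
    (hch _ (TensorProduct.mk S S' N₀ 1) (TensorProduct.isBaseChange S N₀ S')).localize m T q'' NT μ hμ
  let _ : Algebra S T := ((algebraMap S' T).comp (algebraMap S S')).toAlgebra
  have : IsScalarTower S S' T := .of_algebraMap_eq' rfl
  let _ : Algebra A T := ((algebraMap S T).comp (algebraMap A S)).toAlgebra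
  have : IsScalarTower A S T := .of_algebraMap_eq' rfl
  have : IsScalarTower A B T := .of_algebraMap_eq fun a => by
    show algebraMap S' T (algebraMap S S' (algebraMap A S a)) = _
    rw [← IsScalarTower.algebraMap_apply A S S', IsScalarTower.algebraMap_apply A R' S',
      ← IsScalarTower.algebraMap_apply R' S' T, IsScalarTower.algebraMap_apply A R' B,
      ← IsScalarTower.algebraMap_apply R' B T]
  let _ : Module S NT := Module.compHom NT (algebraMap S T)
  have : IsScalarTower S T NT := .of_algebraMap_smul fun _ _ => rfl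
  have : IsScalarTower S S' NT := .of_algebraMap_smul fun c x => by
    rw [← algebraMap_smul T (algebraMap S S' c) x]
    rfl
  have : Module.Flat S' T :=
    Module.Flat.of_linearEquiv (R := S') (M := S' ⊗[R'] B)
      (Algebra.IsPushout.equiv R' S' B T).toLinearEquiv.symm
  have : Module.Flat R' B := IsLocalization.flat B p'.primeCompl
  have : Module.Flat S T := Module.Flat.trans S S' T
  have : Module.Flat A B := Module.Flat.trans A R' B
  have : Algebra.FormallyUnramified A B := Algebra.FormallyUnramified.comp A R' B
  have : Algebra.EssFiniteType A B := Algebra.EssFiniteType.comp A R' B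
  haveI : IsLocalHom (algebraMap A B) :=
    ((local_hom_TFAE (algebraMap A B)).out 0 4).2 (by
      rw [IsScalarTower.algebraMap_eq A R' B, ← Ideal.comap_comap]
      exact (congrArg (Ideal.comap (algebraMap A R')) hmp'.over.symm).trans hRo.over.symm)
  have hqq : q = q''.comap (algebraMap S T) := by
    rw [IsScalarTower.algebraMap_eq S S' T, ← Ideal.comap_comap]
    exact hSo.over.trans (congrArg (Ideal.comap (algebraMap S S')) hq''q'.over)
  -- the local ring
  let L := Localization.AtPrime q''
  let _ : Module B NT := Module.compHom NT (algebraMap B T)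
  have : IsScalarTower B T NT := .of_algebraMap_smul fun _ _ => rfl
  have : Module.Flat S L := Module.Flat.trans S T L
  have hqL : q = (maximalIdeal L).comap (algebraMap S L) := by
    rw [IsScalarTower.algebraMap_eq S T L, ← Ideal.comap_comap]
    exact hqq.trans (congrArg (Ideal.comap (algebraMap S T))
      (IsLocalization.AtPrime.under_maximalIdeal L q'').symm)
  let f₂ : N₀ →ₗ[S] LocalizedModule q''.primeCompl NT :=
    ((LocalizedModule.mkLinearMap q''.primeCompl NT).restrictScalars S) ∘ₗ
      ((μ.restrictScalars S) ∘ₗ TensorProduct.mk S S' N₀ 1)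
  have hf₂ : IsBaseChange L f₂ :=
    ((TensorProduct.isBaseChange S N₀ S').comp hμ).comp (IsLocalizedModule.isBaseChange q''.primeCompl L _)
  have hφ : Bijective (φ.lTensor L) :=
    bijective_lTensor_localized q.primeCompl (fun t ht => by
      by_contra h
      exact ht (hqL ▸ (mem_maximalIdeal _).2 h)) φ
  let e₂ : L ⊗[S] N₀ ≃ₗ[L] L ⊗[S] N :=
    LinearEquiv.ofBijective (AlgebraTensorModule.lTensor L L φ) hφ
  have hprop : DetProp B (L ⊗[S] N) :=
    (detProp_of_chain hchain).of_equiv ((hf₂.equiv.symm.trans e₂).restrictScalars B)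
  -- `L` as a local ring of `S'` and of a finite free chart
  have hTloc : IsLocalization (Algebra.algebraMapSubmonoid S' p'.primeCompl) T :=
    (Algebra.isLocalization_iff_isPushout p'.primeCompl B).2 hpush'
  have hLq' : IsLocalization.AtPrime L q' := by
    have := IsLocalization.isLocalization_isLocalization_atPrime_isLocalization
      (M := Algebra.algebraMapSubmonoid S' p'.primeCompl) (T := L) q''
    show IsLocalization q'.primeCompl L
    have hpc : q'.primeCompl = (q''.comap (algebraMap S' T)).primeCompl := by
      ext x; rw [Ideal.mem_primeCompl_iff, Ideal.mem_primeCompl_iff, hq''q'.over]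
    rw [hpc]
    exact this
  let SR := S ⊗[A] R'
  let χ : SR →ₐ[S] S' := Algebra.TensorProduct.lift (Algebra.ofId S S') (IsScalarTower.toAlgHom A R' S')
    fun _ _ => .all _ _
  let _ : Algebra SR S' := χ.toRingHom.toAlgebra
  have : IsScalarTower S SR S' := .of_algebraMap_eq fun s => (χ.commutes s).symm
  have : Algebra.Etale S S' := hSe
  have : Algebra.Etale A R' := hRe
  have : Algebra.Etale SR S' := Algebra.Etale.of_restrictScalars S SR S'
  obtain ⟨f, hf, hfstd⟩ := Algebra.IsEtaleAt.exists_isStandardEtale (R := SR) q'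
  let X := Localization.Away f
  obtain ⟨P⟩ := hfstd.nonempty_standardEtalePresentation
  let E := AdjoinRoot P.f
  let e : X ≃ₐ[SR] Localization.Away (AdjoinRoot.mk P.f P.g) := P.equivRing.trans P.P.equivAwayAdjoinRoot
  let fX : X →+* L := IsLocalization.Away.lift f (g := algebraMap S' L)
    (IsLocalization.map_units L (⟨f, hf⟩ : q'.primeCompl))
  let _ : Algebra X L := fX.toAlgebra
  have : IsScalarTower S' X L := .of_algebraMap_eq fun s => (IsLocalization.Away.lift_eq f _ s).symm
  let _ : Algebra E X := (e.symm.toRingEquiv.toRingHom.comp (algebraMap E _)).toAlgebra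
  haveI : IsLocalization.Away (AdjoinRoot.mk P.f P.g) X :=
    IsLocalization.isLocalization_of_algEquiv _
      ({ e.symm.toRingEquiv with commutes' := fun x => rfl } :
        Localization.Away (AdjoinRoot.mk P.f P.g) ≃ₐ[E] X)
  let _ : Algebra E L := (fX.comp (algebraMap E X)).toAlgebra
  have : IsScalarTower E X L := .of_algebraMap_eq' rfl
  have hLE := isLocalization_chart (S' := S') (X := X) (L := L) f (AdjoinRoot.mk P.f P.g) q' hf
  have hSRE : ∀ x : SR, algebraMap E L (algebraMap SR E x) = algebraMap S' L (algebraMap SR S' x) := fun x => by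
    show fX (e.symm (algebraMap E _ (algebraMap SR E x))) = _
    rw [← IsScalarTower.algebraMap_apply, e.symm.commutes, IsScalarTower.algebraMap_apply SR S' X]
    exact IsLocalization.Away.lift_eq f _ _
  have hrSR : ∀ r : R', algebraMap SR S' (algebraMap R' SR r) = algebraMap R' S' r := fun r => by
    show χ ((1 : S) ⊗ₜ[A] r) = _
    show Algebra.ofId S S' 1 * algebraMap R' S' r = _
    rw [map_one, one_mul]
  have hsE : ∀ s : S, algebraMap S E s = algebraMap SR E (algebraMap S SR s) := fun s =>
    IsScalarTower.algebraMap_apply S SR E s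
  have hrE : ∀ r : R', algebraMap R' E r = algebraMap SR E (algebraMap R' SR r) := fun r =>
    IsScalarTower.algebraMap_apply R' SR E r
  have : IsScalarTower S E L := .of_algebraMap_eq fun s => by
    rw [hsE, hSRE, ← IsScalarTower.algebraMap_apply S SR S', ← IsScalarTower.algebraMap_apply S S' L]
  have : IsScalarTower R' E L := .of_algebraMap_eq fun r => by
    rw [hrE, hSRE, hrSR, ← IsScalarTower.algebraMap_apply R' S' L]
  have : IsScalarTower A E L := .of_algebraMap_eq fun a => by
    rw [IsScalarTower.algebraMap_apply A S E, ← IsScalarTower.algebraMap_apply S E L,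
      ← IsScalarTower.algebraMap_apply A S L]
  have : Module.Finite SR E := P.monic_f.finite_adjoinRoot
  have : Module.Free SR E := P.monic_f.free_adjoinRoot
  let qE := (maximalIdeal L).comap (algebraMap E L)
  obtain ⟨K, hK⟩ := exists_isDet_local (A := A) (R' := R') (B := B) (S := S) (E := E) (L := L) (N := N) p' qE
    (fun s hs h => by
      have h' : algebraMap R' L s ∈ maximalIdeal L := by
        rw [IsScalarTower.algebraMap_apply R' E L]; exact h
      rw [IsScalarTower.algebraMap_apply R' B L] at h'
      exact (mem_maximalIdeal _).1 h' ((IsLocalization.map_units B (⟨s, hs⟩ : p'.primeCompl)).map _))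
    (Module.Free.chooseBasis SR E) u (modInj_baseChange u hu)
  let eG : L ⊗[E] (E ⊗[S] N) ≃ₗ[B] L ⊗[S] N :=
    (AlgebraTensorModule.cancelBaseChange S E L L N).restrictScalars B
  obtain ⟨hflat, -, hcont⟩ := hprop.of_equiv eG.symm K hK
  have hflatB : Module.Flat B (L ⊗[S] N) := Module.Flat.of_linearEquiv eG.symm
  have hA : Module.Flat A (L ⊗[S] N) := Module.Flat.trans A B _
  have hLat : FlatCA.FlatAt A (maximalIdeal L) (L ⊗[S] N) :=
    (flatAt_iff_kerKilled _).2 fun X Y _ _ _ _ i hi x hx => ⟨1, Ideal.one_notMem _, by
      rw [one_smul]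
      exact Module.Flat.lTensor_preserves_injective_linearMap (M := L ⊗[S] N) i hi
        (hx.trans (map_zero _).symm)⟩
  have hNat : FlatCA.FlatAt A q N := by
    have h := (flatAt_tensor_iff (maximalIdeal L)).1 hLat
    simp only [← hqL] at h
    exact h
  haveI hNflat : Module.Flat A N := flat_of_flatAt_of_units q hN hNat
  refine ⟨hNflat, reflects_of_content (B := B) (fun x => (1 : L) ⊗ₜ[S] x) (fun K x => ?_)
    (hasContent_of_equiv hcont eG) u hu⟩
  have hres : (K.map (algebraMap A B) • (⊤ : Submodule B (L ⊗[S] N))).restrictScalars A =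
      K • (⊤ : Submodule A (L ⊗[S] N)) := by
    rw [Ideal.smul_restrictScalars, Submodule.restrictScalars_top]
  rw [← Submodule.restrictScalars_mem A (K.map (algebraMap A B) • ⊤), hres]
  constructor
  · intro hx
    exact apply_mem_smul_top ((TensorProduct.mk S L N 1).restrictScalars A) hx
  · intro hx
    let KS : Submodule S N := K.map (algebraMap A S) • ⊤
    have hKS : ∀ y : N, y ∈ KS ↔ y ∈ K • (⊤ : Submodule A N) := fun y => by
      rw [← Submodule.restrictScalars_mem A, Ideal.smul_restrictScalars, Submodule.restrictScalars_top]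
    have h0 : (1 : L) ⊗ₜ[S] KS.mkQ x = 0 := by
      rw [← LinearMap.lTensor_tmul]
      refine Submodule.smul_induction_on (p := fun z => KS.mkQ.lTensor L z = 0) hx (fun a ha z hztop => ?_)
        fun v w hv hw => by rw [map_add, hv, hw, add_zero]
      clear hztop
      induction z using TensorProduct.induction_on with
      | zero => rw [smul_zero, map_zero]
      | add v w hv hw => rw [smul_add, map_add, hv, hw, add_zero]
      | tmul l y =>
        rw [smul_tmul', ← algebraMap_smul S a l, smul_tmul, LinearMap.lTensor_tmul,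
          Submodule.mkQ_apply, (Submodule.Quotient.mk_eq_zero _).2
            (Submodule.smul_mem_smul (Ideal.mem_map_of_mem _ ha) Submodule.mem_top), tmul_zero]
    refine (hKS x).1 ((Submodule.Quotient.mk_eq_zero KS).1 (eq_zero_of_one_tmul q hqL (fun c hc z hz => ?_) _ h0))
    obtain ⟨y, rfl⟩ := KS.mkQ_surjective z
    rw [← map_smul] at hz
    have hy : c • y ∈ KS := (Submodule.Quotient.mk_eq_zero KS).1 hz
    refine (Submodule.Quotient.mk_eq_zero KS).2 ?_
    -- multiplication by `c` is bijective on `N`
    have hmap : KS ≤ Submodule.map (LinearMap.lsmul S N c) KS := by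
      have hs : Surjective (LinearMap.lsmul S N c) := (hN c hc).2
      show KS ≤ Submodule.map (LinearMap.lsmul S N c) (K.map (algebraMap A S) • ⊤)
      rw [Submodule.map_smul'', Submodule.map_top, LinearMap.range_eq_top.2 hs]
    obtain ⟨y', hy', he⟩ := hmap hy
    rwa [(hN c hc).1 (show c • y = c • y' from he.symm)]

/-- **Maps to flat modules injective modulo the maximal ideal**, linear over the base only. -/
theorem injMod_linear_ess {A B N M : Type u} [CommRing A] [IsLocalRing A] [CommRing B] [IsLocalRing B]
    [Algebra A B] [IsLocalHom (algebraMap A B)] [Algebra.EssFiniteType A B]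
    [AddCommGroup N] [Module B N] [Module A N] [IsScalarTower A B N] [Module.Finite B N]
    [AddCommGroup M] [Module A M] [Module.Flat A M] (u : N →ₗ[A] M) (hu : ModInj u) :
    FlatCA.UnivInj A u ∧ Module.Flat A N ∧ Module.FinitePresentation B N := by
  obtain ⟨P, _, _, _, _, hfpP, hP⟩ := exists_polynomial_model (A := A) (B := B)
  let _ : Module P N := Module.compHom N (algebraMap P B)
  have : IsScalarTower P B N := .of_algebraMap_smul fun _ _ => rfl
  have : IsScalarTower A P N := isScalarTower_of_top A P B N
  let q := (maximalIdeal B).comap (algebraMap P B)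
  have : q.LiesOver (maximalIdeal A) := ⟨by
    rw [Ideal.under, Ideal.comap_comap, ← IsScalarTower.algebraMap_eq]
    exact Eq.symm (((local_hom_TFAE (algebraMap A B)).out 0 4).1 ‹IsLocalHom (algebraMap A B)›)⟩
  obtain ⟨N₀, _, hloc⟩ := exists_finite_model (N := N) hP
  obtain ⟨hN, hrefl⟩ := injMod_linear q N₀.subtype u hu
  refine ⟨hrefl.univInj, hN, ?_⟩
  have hat : FlatCA.FlatAt A q N₀ :=
    Module.Flat.of_linearEquiv ((IsLocalizedModule.iso q.primeCompl N₀.subtype).restrictScalars A)
  have hfp := fp_localization_of_flatAt (R := A) (↥N₀) q hat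
  let Pq := Localization.AtPrime q
  let ι : Pq →+* B := IsLocalization.lift (M := q.primeCompl) (g := algebraMap P B)
    fun c => of_not_not fun h => c.2 ((mem_maximalIdeal _).2 h)
  let _ : Algebra Pq B := ι.toAlgebra
  have : IsScalarTower P Pq B := .of_algebraMap_eq fun x => (IsLocalization.lift_eq _ x).symm
  have hsurj : Surjective (algebraMap Pq B) := fun b => by
    obtain ⟨s, t, ht, hbt⟩ := hP b
    have htq : t ∈ q.primeCompl := fun h => (mem_maximalIdeal _).1 h ht
    refine ⟨IsLocalization.mk' Pq s (⟨t, htq⟩ : q.primeCompl), ?_⟩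
    show ι _ = b
    rw [IsLocalization.lift_mk'_spec, mul_comm]
    exact hbt.symm
  have : Module.Finite Pq B := Module.Finite.of_surjective (Algebra.linearMap Pq B) hsurj
  let _ : Module Pq N := Module.compHom N (algebraMap Pq B)
  have : IsScalarTower Pq B N := .of_algebraMap_smul fun _ _ => rfl
  have : IsScalarTower P Pq N := isScalarTower_of_top P Pq B N
  have : Module.FinitePresentation Pq N := Module.FinitePresentation.of_equiv
    ((IsLocalizedModule.iso q.primeCompl N₀.subtype).extendScalarsOfIsLocalization q.primeCompl Pq)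
  exact finitePresentation_of_restrictScalars Pq B N

end Groth.Agent.CAlgH.InjModA
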